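import Mathlib
import Cfsg.Agent.Lib.FGS.Basics
import Cfsg.Agent.Lib.FGS.Covering

/-!
# Class sizes `1, m, m * n` with `m`, `n` coprime: basic facts
-/

set_option autoImplicit false
set_option linter.unusedSectionVars false

namespace CfsgLib.FGS.CoprimeMultiple

open Subgroup

variable {G : Type*} [Group G]

/-- The centraliser of an element. -/
abbrev C (x : G) : Subgroup G := centralizer ({x} : Set G)

/-- Elements of `p`-power order. -/
def IsPElem (p : ℕ) (x : G) : Prop := ∃ k : ℕ, orderOf x = p ^ k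

theorem mem_C {g x : G} : g ∈ C x ↔ g * x = x * g := mem_centralizer_singleton_iff

theorem mem_C_comm {g x : G} (h : g ∈ C x) : x ∈ C g := mem_C.2 (mem_C.1 h).symm

theorem self_mem_C (x : G) : x ∈ C x := mem_C.2 rfl

theorem center_le_C (x : G) : center G ≤ C x := fun z hz =>
  mem_C.2 (mem_center_iff.1 hz x).symm

theorem mem_center_iff_C {x : G} : x ∈ center G ↔ C x = ⊤ := by
  refine ⟨fun h => eq_top_iff.2 fun g _ => mem_C.2 (mem_center_iff.1 h g), fun h => ?_⟩
  exact mem_center_iff.2 fun g => mem_C.1 (h ▸ mem_top g)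

theorem C_le_C_pow (x : G) (k : ℕ) : C x ≤ C (x ^ k) := fun g hg =>
  mem_C.2 ((show Commute g x from mem_C.1 hg).pow_right k).eq

theorem IsPElem.pow {p : ℕ} [Fact p.Prime] {x : G} (h : IsPElem p x) (j : ℕ) : IsPElem p (x ^ j) := by
  obtain ⟨k, hk⟩ := h
  obtain ⟨i, -, hi⟩ := (Nat.dvd_prime_pow (Fact.out : p.Prime)).1 (hk ▸ orderOf_pow_dvd (x := x) j)
  exact ⟨i, hi⟩

theorem isPElem_conj {p : ℕ} {x : G} (h : IsPElem p x) (g : G) : IsPElem p (g * x * g⁻¹) := by
  obtain ⟨k, hk⟩ := h
  exact ⟨k, by rw [← hk]; exact orderOf_injective (MulAut.conj g).toMonoidHom (MulAut.conj g).injective x⟩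

theorem isPElem_of_mem {p : ℕ} [Fact p.Prime] {H : Subgroup G} (hH : IsPGroup p H) {x : G}
    (hx : x ∈ H) : IsPElem p x := by
  obtain ⟨k, hk⟩ := IsPGroup.iff_orderOf.1 hH ⟨x, hx⟩
  exact ⟨k, by rw [← hk, orderOf_mk]⟩

theorem IsPElem.coprime {p q : ℕ} [hp : Fact p.Prime] [hq : Fact q.Prime] {x y : G} (hx : IsPElem p x)
    (hy : IsPElem q y) (hne : p ≠ q) : (orderOf x).Coprime (orderOf y) := by
  obtain ⟨k, hk⟩ := hx
  obtain ⟨l, hl⟩ := hy
  rw [hk, hl]
  exact Nat.coprime_pow_primes _ _ hp.out hq.out hne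

theorem IsPElem.coprime_of {p : ℕ} [hp : Fact p.Prime] {x y : G} (hx : IsPElem p x)
    (hy : ¬ p ∣ orderOf y) : (orderOf x).Coprime (orderOf y) := by
  obtain ⟨k, hk⟩ := hx
  rw [hk]
  exact Nat.Coprime.pow_left _ (hp.out.coprime_iff_not_dvd.2 hy)

variable [Finite G]

/-- The class size. -/
noncomputable abbrev idx (x : G) : ℕ := (C x).index

/-- The exponent of `p` in the order of a subgroup. -/
noncomputable abbrev fac (p : ℕ) (H : Subgroup G) : ℕ := (Nat.card H).factorization p

theorem idx_eq_one {x : G} : idx x = 1 ↔ x ∈ center G := by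
  rw [idx, index_eq_one, mem_center_iff_C]

theorem fac_add_index (p : ℕ) (H : Subgroup G) :
    fac p H + H.index.factorization p = (Nat.card G).factorization p := by
  rw [fac, ← H.card_mul_index, Nat.factorization_mul Nat.card_pos.ne' index_ne_zero_of_finite,
    Finsupp.add_apply]

theorem fac_le_of_le (p : ℕ) {H K : Subgroup G} (h : H ≤ K) : fac p H ≤ fac p K :=
  (Nat.factorization_le_iff_dvd Nat.card_pos.ne' Nat.card_pos.ne').2 (card_dvd_of_le h) p

theorem card_C_eq {x y : G} (h : idx x = idx y) : Nat.card (C x) = Nat.card (C y) := by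
  have h1 := (C x).card_mul_index
  rw [show (C x).index = (C y).index from h, ← (C y).card_mul_index] at h1
  exact Nat.eq_of_mul_eq_mul_right (Nat.pos_of_ne_zero index_ne_zero_of_finite) h1

theorem C_eq_of_le {x y : G} (hle : C x ≤ C y) (h : idx x = idx y) : C x = C y :=
  Subgroup.eq_of_le_of_card_ge hle (card_C_eq h).ge

theorem idx_dvd_of_le {x y : G} (hle : C x ≤ C y) : idx y ∣ idx x := index_dvd_of_le hle

theorem C_conj (g x : G) : C (g * x * g⁻¹) = (C x).map (MulAut.conj g).toMonoidHom := by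
  ext y
  rw [mem_map_equiv, MulAut.conj_symm_apply, mem_C, mem_C]
  constructor
  · intro h
    calc g⁻¹ * y * g * x = g⁻¹ * (y * (g * x * g⁻¹)) * g := by group
      _ = x * (g⁻¹ * y * g) := by rw [h]; group
  · intro h
    calc y * (g * x * g⁻¹) = g * (g⁻¹ * y * g * x) * g⁻¹ := by group
      _ = g * x * g⁻¹ * y := by rw [h]; group

theorem idx_conj (g x : G) : idx (g * x * g⁻¹) = idx x := by
  rw [idx, idx, C_conj]
  exact index_map_of_bijective (f := (MulAut.conj g).toMonoidHom) (MulAut.conj g).bijective (C x)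

theorem conj_mem_center {g x : G} : g * x * g⁻¹ ∈ center G ↔ x ∈ center G := by
  rw [← idx_eq_one, idx_conj, idx_eq_one]

/-- The centraliser of a product of commuting elements of coprime orders. -/
theorem C_mul {a b : G} (hab : Commute a b) (hco : (orderOf a).Coprime (orderOf b)) :
    C (a * b) = C a ⊓ C b := by
  refine le_antisymm ?_ fun g hg => mem_C.2
    ((show Commute g a from mem_C.1 hg.1).mul_right (mem_C.1 hg.2)).eq
  have key : ∀ a b : G, Commute a b → (orderOf a).Coprime (orderOf b) → C (a * b) ≤ C a := by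
    intro a b hab hco
    have e : (a * b) ^ orderOf b = a ^ orderOf b := by
      rw [hab.mul_pow, pow_orderOf_eq_one, mul_one]
    obtain ⟨k, hk⟩ := exists_pow_eq_self_of_coprime hco.symm
    calc C (a * b) ≤ C (((a * b) ^ orderOf b) ^ k) :=
          (C_le_C_pow _ _).trans (C_le_C_pow _ _)
      _ = C a := by rw [e, hk]
  exact le_inf (key a b hab hco) (by rw [hab.eq]; exact key b a hab.symm hco.symm)

theorem exists_parts (p : ℕ) [hp : Fact p.Prime] (g : G) :
    ∃ a b : ℕ, IsPElem p (g ^ a) ∧ ¬ p ∣ orderOf (g ^ b) ∧ g ^ a * g ^ b = g := by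
  obtain ⟨a, b, ha, hb, hab, -⟩ := CfsgLib.FGS.exists_p_parts p g
  exact ⟨a, b, ha, fun h => hp.out.coprime_iff_not_dvd.1 hb.symm h, hab⟩

/-- A noncentral element has a noncentral power of prime power order. -/
theorem exists_primary_pow {g : G} (hg : g ∉ center G) :
    ∃ p k : ℕ, p.Prime ∧ IsPElem p (g ^ k) ∧ g ^ k ∉ center G ∧ p ∣ orderOf g := by
  induction h : orderOf g using Nat.strong_induction_on generalizing g with
  | _ d ih =>
  subst h
  have h1 : orderOf g ≠ 1 := fun e => hg (by rw [orderOf_eq_one_iff.1 e]; exact one_mem _)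
  obtain ⟨q, hq, hqd⟩ := Nat.exists_prime_and_dvd h1
  haveI := Fact.mk hq
  obtain ⟨a, b, ha, hb, hab⟩ := exists_parts q g
  by_cases hac : g ^ a ∈ center G
  · have hbc : g ^ b ∉ center G := fun hbc => hg (hab ▸ mul_mem hac hbc)
    have hlt : orderOf (g ^ b) < orderOf g :=
      lt_of_le_of_ne (Nat.le_of_dvd (orderOf_pos g) (orderOf_pow_dvd b)) fun e => hb (e ▸ hqd)
    obtain ⟨p, k, hp, hk, hkc, hd⟩ := ih _ hlt hbc rfl
    exact ⟨p, b * k, hp, by rwa [pow_mul], by rwa [pow_mul], hd.trans (orderOf_pow_dvd b)⟩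
  · exact ⟨q, a, hq, ha, hac, hqd⟩

theorem isPGroup_of_pElem {p : ℕ} [Fact p.Prime] {x : G} (h : IsPElem p x) : IsPGroup p (zpowers x) :=
  CfsgLib.FGS.isPGroup_zpowers h.choose_spec

theorem exists_sylow_mem {p : ℕ} [Fact p.Prime] {x : G} (h : IsPElem p x) :
    ∃ P : Sylow p G, x ∈ (P : Subgroup G) := by
  obtain ⟨P, hP⟩ := (isPGroup_of_pElem h).exists_le_sylow
  exact ⟨P, hP (mem_zpowers x)⟩

/-- A `p`-subgroup with the `p`-part of the order of `H` below `H`. -/
theorem exists_pSubgroup (p : ℕ) [Fact p.Prime] (H : Subgroup G) :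
    ∃ U ≤ H, IsPGroup p U ∧ Nat.card U = p ^ fac p H := by
  obtain ⟨S⟩ : Nonempty (Sylow p H) := inferInstance
  exact ⟨(S : Subgroup H).map H.subtype, map_subtype_le _, S.2.map _,
    by rw [card_map_of_injective H.subtype_injective, S.card_eq_multiplicity]⟩

/-- A `p`-subgroup above `U` below `H`. -/
theorem exists_pSubgroup_ge {p : ℕ} [Fact p.Prime] {H U : Subgroup G} (hUH : U ≤ H) (hU : IsPGroup p U) :
    ∃ V, U ≤ V ∧ V ≤ H ∧ IsPGroup p V ∧ Nat.card V = p ^ fac p H := by
  obtain ⟨S, hS⟩ := (hU.comap_subtype (H := U) (K := H)).exists_le_sylow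
  refine ⟨(S : Subgroup H).map H.subtype, ?_, map_subtype_le _, S.2.map _,
    by rw [card_map_of_injective H.subtype_injective, S.card_eq_multiplicity]⟩
  intro u hu
  exact ⟨⟨u, hUH hu⟩, hS (mem_comap.2 hu), rfl⟩

theorem card_le_of_pSubgroup {p : ℕ} [hp : Fact p.Prime] {H U : Subgroup G} (hUH : U ≤ H) (hU : IsPGroup p U) :
    Nat.card U ≤ p ^ fac p H := by
  obtain ⟨k, hk⟩ := IsPGroup.iff_card.1 hU
  rw [hk]
  refine Nat.pow_le_pow_right hp.out.pos ?_
  have := fac_le_of_le p hUH
  rwa [fac, hk, Nat.factorization_pow, Finsupp.smul_apply, hp.out.factorization_self, smul_eq_mul,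
    mul_one] at this

theorem sylow_le_of_fac {p : ℕ} [Fact p.Prime] {H : Subgroup G}
    (h : fac p H = (Nat.card G).factorization p) : ∃ P : Sylow p G, (P : Subgroup G) ≤ H := by
  obtain ⟨U, hUH, hU, hcard⟩ := exists_pSubgroup p H
  exact ⟨Sylow.ofCard U (by rw [hcard, h]), hUH⟩

/-- A `p`-element of `H` is conjugate inside `H` into a given full `p`-subgroup of `H`. -/
theorem exists_conj_mem {p : ℕ} [Fact p.Prime] {H U : Subgroup G} (hUH : U ≤ H)
    (hcard : Nat.card U = p ^ fac p H) {x : G} (hxH : x ∈ H) (hx : IsPElem p x) :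
    ∃ c ∈ H, c * x * c⁻¹ ∈ U := by
  let S : Sylow p H := Sylow.ofCard (U.subgroupOf H) (by
    rw [Nat.card_congr (subgroupOfEquivOfLe hUH).toEquiv, hcard])
  obtain ⟨k, hk⟩ := hx
  have hz : IsPGroup p (zpowers (⟨x, hxH⟩ : H)) := IsPGroup.of_card (n := k) (by
    rw [Nat.card_zpowers, orderOf_mk, hk])
  obtain ⟨T, hT⟩ := hz.exists_le_sylow
  obtain ⟨c, hc⟩ := MulAction.exists_smul_eq H T S
  refine ⟨c, c.2, ?_⟩
  have h2 : c * ⟨x, hxH⟩ * c⁻¹ ∈ ((c • T : Sylow p H) : Subgroup H) := by
    rw [Sylow.coe_subgroup_smul]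
    exact smul_mem_pointwise_smul _ (MulAut.conj c) _ (hT (mem_zpowers _))
  rw [hc] at h2
  exact h2

/-- Noncentral `p`-elements raise the `p`-part above that of the centre. -/
theorem fac_center_lt {p : ℕ} [hp : Fact p.Prime] {H : Subgroup G} (hH : center G ≤ H) {x : G}
    (hx : x ∈ H) (hpx : IsPElem p x) (hxc : x ∉ center G) : fac p (center G) < fac p H := by
  obtain ⟨k, hk⟩ := hpx
  set q : G ⧸ center G := QuotientGroup.mk x with hq
  have hd : orderOf q ∣ p ^ k := hk ▸ orderOf_map_dvd (QuotientGroup.mk' (center G)) x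
  have hne : orderOf q ≠ 1 := fun e => hxc ((QuotientGroup.eq_one_iff x).1 (orderOf_eq_one_iff.1 e))
  obtain ⟨i, -, hi⟩ := (Nat.dvd_prime_pow hp.out).1 hd
  have hi0 : i ≠ 0 := fun e => hne (by rw [hi, e, pow_zero])
  have h1 : p ∣ (center G).relIndex H := by
    have h2 : orderOf q ∣ Nat.card (H.map (QuotientGroup.mk' (center G))) :=
      orderOf_dvd_natCard _ (⟨x, hx, rfl⟩ : q ∈ H.map (QuotientGroup.mk' (center G)))
    have e : Nat.card (H.map (QuotientGroup.mk' (center G))) = (center G).relIndex H := by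
      rw [← relIndex_ker, QuotientGroup.ker_mk']
    exact ((hi ▸ dvd_pow_self p hi0).trans h2).trans e.dvd
  have h3 : Nat.card H = Nat.card (center G) * (center G).relIndex H := by
    rw [← relIndex_bot_left, ← relIndex_bot_left, relIndex_mul_relIndex ⊥ _ H bot_le hH]
  have hne0 : (center G).relIndex H ≠ 0 := fun e => Nat.card_pos.ne' (by rw [h3, e, mul_zero])
  rw [fac, fac, h3, Nat.factorization_mul Nat.card_pos.ne' hne0, Finsupp.add_apply]
  exact Nat.lt_add_of_pos_right (hp.out.factorization_pos_of_dvd hne0 h1)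

/-- The converse. -/
theorem exists_pElem_of_lt {p : ℕ} [hp : Fact p.Prime] {H : Subgroup G}
    (h : fac p (center G) < fac p H) : ∃ x ∈ H, IsPElem p x ∧ x ∉ center G := by
  obtain ⟨U, hUH, hU, hcard⟩ := exists_pSubgroup p H
  by_contra hc
  push Not at hc
  have hle : U ≤ center G := fun u hu => hc u (hUH hu) (isPElem_of_mem hU hu)
  have := card_le_of_pSubgroup hle hU
  rw [hcard, Nat.pow_le_pow_iff_right hp.out.one_lt] at this
  omega

/-- The hypothesis: class sizes `1, m, m * n` with coprime `m`, `n > 1`. -/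
structure Sizes (G : Type*) [Group G] (m n : ℕ) : Prop where
  one_lt_m : 1 < m
  one_lt_n : 1 < n
  cop : m.Coprime n
  cases : ∀ x : G, (centralizer ({x} : Set G)).index = 1 ∨ (centralizer ({x} : Set G)).index = m ∨
    (centralizer ({x} : Set G)).index = m * n
  exM : ∃ x : G, (centralizer ({x} : Set G)).index = m
  exMN : ∃ x : G, (centralizer ({x} : Set G)).index = m * n

namespace Sizes

variable {m n : ℕ} (hs : Sizes G m n)
include hs

omit [Finite G] in
theorem m_ne_one : m ≠ 1 := hs.one_lt_m.ne'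

omit [Finite G] in
theorem mn_ne_m : m * n ≠ m := fun e => by
  have h1 : m * n = m * 1 := by rw [e, mul_one]
  exact hs.one_lt_n.ne' (Nat.eq_of_mul_eq_mul_left (by have := hs.one_lt_m; omega) h1)

omit [Finite G] in
theorem mn_ne_one : m * n ≠ 1 := fun e => hs.m_ne_one (Nat.eq_one_of_mul_eq_one_right e)

theorem not_center_m {x : G} (h : idx x = m) : x ∉ center G := fun hx =>
  hs.m_ne_one (h.symm.trans (idx_eq_one.2 hx))

theorem not_center_mn {x : G} (h : idx x = m * n) : x ∉ center G := fun hx =>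
  hs.mn_ne_one (h.symm.trans (idx_eq_one.2 hx))

theorem m_or_mn {x : G} (hx : x ∉ center G) : idx x = m ∨ idx x = m * n :=
  (hs.cases x).resolve_left fun h => hx (idx_eq_one.1 h)

/-- A size `m * n` centraliser is minimal. -/
theorem idx_of_le_mn {x y : G} (hy : idx y = m * n) (hle : C x ≤ C y) : idx x = m * n := by
  rcases hs.cases x with h | h | h
  · have h1 := idx_dvd_of_le hle
    rw [hy, show idx x = 1 from h] at h1
    exact absurd (Nat.dvd_one.1 h1) hs.mn_ne_one
  · have h1 := idx_dvd_of_le hle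
    rw [hy, show idx x = m from h] at h1
    exact absurd (Nat.dvd_antisymm h1 (dvd_mul_right m n)) hs.mn_ne_m
  · exact h

theorem eq_of_le_mn {x y : G} (hy : idx y = m * n) (hle : C x ≤ C y) : C x = C y :=
  C_eq_of_le hle ((hs.idx_of_le_mn hy hle).trans hy.symm)

/-- A size `m` centraliser is maximal. -/
theorem eq_of_le_m {x y : G} (hx : idx x = m) (hy : y ∉ center G) (hle : C x ≤ C y) : C x = C y := by
  refine C_eq_of_le hle (hx.trans ?_)
  rcases hs.m_or_mn hy with h | h
  · exact h.symm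
  · have h1 := idx_dvd_of_le hle
    rw [hx, h] at h1
    exact absurd (Nat.dvd_antisymm h1 (dvd_mul_right m n)) hs.mn_ne_m

/-- An element of coprime order commuting with a size `m * n` element is central in its centraliser. -/
theorem absorb {w u : G} (hw : idx w = m * n) (hu : u ∈ C w) (hco : (orderOf w).Coprime (orderOf u)) :
    C w ≤ C u := by
  have hc : Commute w u := (mem_C.1 hu).symm
  have hle : C (w * u) ≤ C w := (C_mul hc hco).le.trans inf_le_left
  have h1 := hs.eq_of_le_mn hw hle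
  rw [← h1, C_mul hc hco]
  exact inf_le_right

/-- Centralisers relative to a size `m` centraliser. -/
theorem le_or_mn {x g : G} (hx : idx x = m) (hg : g ∈ C x) (hco : (orderOf x).Coprime (orderOf g)) :
    C x ≤ C g ∨ idx (x * g) = m * n := by
  have hc : Commute x g := (mem_C.1 hg).symm
  have e := C_mul hc hco
  rcases hs.cases (x * g) with h | h | h
  · exact absurd (mem_center_iff_C.1 (idx_eq_one.1 h)) fun ht => hs.not_center_m hx
      (mem_center_iff_C.2 (top_le_iff.1 (ht ▸ e.le.trans inf_le_left)))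
  · exact Or.inl ((C_eq_of_le (e.le.trans inf_le_left) (Eq.trans h hx.symm)).ge.trans
      (e.le.trans inf_le_right))
  · exact Or.inr h

theorem ne_zero_m : m ≠ 0 := by have := hs.one_lt_m; omega

theorem fac_C_m {x : G} (hx : idx x = m) (p : ℕ) :
    fac p (C x) + m.factorization p = (Nat.card G).factorization p := by
  have := fac_add_index p (C x)
  rwa [show (C x).index = m from hx] at this

theorem fac_C_mn {x : G} (hx : idx x = m * n) (p : ℕ) :
    fac p (C x) + (m.factorization p + n.factorization p) = (Nat.card G).factorization p := by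
  have := fac_add_index p (C x)
  rw [show (C x).index = m * n from hx] at this
  rwa [Nat.factorization_mul hs.ne_zero_m (by have := hs.one_lt_n; omega), Finsupp.add_apply] at this

/-- Off `n` the two kinds of centralisers have the same `p`-part. -/
theorem fac_C_eq {p : ℕ} (hp : ¬ p ∣ n) {x y : G} (hx : x ∉ center G) (hy : y ∉ center G) :
    fac p (C x) = fac p (C y) := by
  have h0 : n.factorization p = 0 := Nat.factorization_eq_zero_of_not_dvd hp
  have key : ∀ z : G, z ∉ center G → fac p (C z) + m.factorization p = (Nat.card G).factorization p := by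
    intro z hz
    rcases hs.m_or_mn hz with h | h
    · exact hs.fac_C_m h p
    · have := hs.fac_C_mn h p
      rwa [h0, add_zero] at this
  have := key x hx
  have := key y hy
  omega

/-- `p`-parts above that of the centre. -/
theorem fac_C_gt {p : ℕ} [Fact p.Prime] (hp : ¬ p ∣ n) {y x : G} (hy : IsPElem p y)
    (hyc : y ∉ center G) (hx : x ∉ center G) : fac p (center G) < fac p (C x) := by
  rw [hs.fac_C_eq hp hx hyc]
  exact fac_center_lt (center_le_C y) (self_mem_C y) hy hyc

theorem not_dvd_of_dvd_n {r : ℕ} (hr : r.Prime) (hrn : r ∣ n) : ¬ r ∣ m := fun h =>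
  hr.one_lt.ne' (Nat.eq_one_of_dvd_coprimes hs.cop h hrn)

theorem not_dvd_of_dvd_m {p : ℕ} (hp : p.Prime) (hpm : p ∣ m) : ¬ p ∣ n := fun h =>
  hp.one_lt.ne' (Nat.eq_one_of_dvd_coprimes hs.cop hpm h)

/-- A size `m` centraliser contains full Sylow subgroups for the primes not dividing `m`. -/
theorem exists_sylow_le_C {r : ℕ} [Fact r.Prime] (hr : ¬ r ∣ m) {x : G} (hx : idx x = m) :
    ∃ R : Sylow r G, (R : Subgroup G) ≤ C x := by
  refine sylow_le_of_fac ?_
  have := hs.fac_C_m hx r
  rwa [Nat.factorization_eq_zero_of_not_dvd hr, add_zero] at this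

/-- A central `r`-element of `C x` lies in every Sylow subgroup contained in it. -/
theorem mem_sylow_of_le_C {r : ℕ} [hr : Fact r.Prime] {x : G} (hx : IsPElem r x) (R : Sylow r G)
    (hR : (R : Subgroup G) ≤ C x) : x ∈ (R : Subgroup G) :=
  CfsgLib.FGS.mem_of_mem_normalizer R hx (centralizer_le_normalizer _ (mem_centralizer_iff.2
    fun u hu => mem_C.1 (hR hu)))

theorem exists_noncentral_pElem {r : ℕ} [hr : Fact r.Prime] (hd : r ∣ m * n) (R : Sylow r G) :
    ∃ x ∈ (R : Subgroup G), x ∉ center G := by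
  by_contra hc
  push Not at hc
  obtain ⟨x, hx⟩ := hs.exMN
  exact R.not_dvd_index ((hd.trans hx.symm.dvd).trans
    (index_dvd_of_le fun u hu => center_le_C x (hc u hu)))

/-- A size `m` element has a size `m` primary component. -/
theorem exists_primary {x : G} (hx : idx x = m) :
    ∃ q k : ℕ, q.Prime ∧ IsPElem q (x ^ k) ∧ idx (x ^ k) = m ∧ C (x ^ k) = C x := by
  obtain ⟨q, k, hq, hk, hkc, -⟩ := exists_primary_pow (hs.not_center_m hx)
  have h := hs.eq_of_le_m hx hkc (C_le_C_pow x k)
  refine ⟨q, k, hq, hk, ?_, h.symm⟩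
  rw [idx, ← h]
  exact hx

end Sizes

end CfsgLib.FGS.CoprimeMultiple
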