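import Mathlib
import Cfsg.Prelude
import Cfsg.Agent.Lib.FGS.CoprimeMultiple.Basic
import Cfsg.Agent.Lib.Solvable.Averaging
import Cfsg.Agent.Lib.Solvable.Fitting
import Cfsg.Agent.Lib.Cores.Basic
import Cfsg.Agent.Lib.PGroup.Basic

/-!
# Tools: semiregular actions on abelian groups, Sylow subgroups centralised by all elements
-/

set_option autoImplicit false
set_option linter.unusedSectionVars false

namespace CfsgLib.FGS.CoprimeMultiple

open Subgroup
open scoped commutatorElement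

/-- Every nontrivial element fixes only global fixed points: then a normalised subgroup of prime
order as below fixes everything. -/
theorem fixed_of_semiregular {E X : Type*} [Group E] [Finite E] [CommGroup X] [Finite X]
    (φ : E →* MulAut X) (hF : ∀ e : E, e ≠ 1 → ∀ v : X, φ e v = v → ∀ e' : E, φ e' v = v)
    {t s : ℕ} [Fact t.Prime] (hs : s.Prime) (Y : Subgroup E) (hY : Nat.card Y = s)
    (hco : s.Coprime (Nat.card X)) {x : E} (hxn : x ∈ normalizer (Y : Set E)) (hxY : x ∉ Y)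
    (hord : ∀ u ∈ Y, (u * x) ^ t = 1) : ∀ y ∈ Y, ∀ v : X, φ y v = v := by
  classical
  haveI := Fintype.ofFinite Y
  let nm : X →* X :=
    { toFun := fun v => ∏ u : Y, φ (u : E) v
      map_one' := by simp
      map_mul' := fun a b => by simp [Finset.prod_mul_distrib] }
  have hnm : ∀ v, nm v = ∏ u : Y, φ (u : E) v := fun _ => rfl
  set N := normalizer (Y : Set E)
  have hinv : ∀ e ∈ N, ∀ v : X, nm (φ e v) = φ e (nm v) := by
    intro e he v
    rw [hnm, hnm, map_prod]
    let σ : Y → Y := fun u => ⟨e⁻¹ * u * e, by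
      have := (mem_normalizer_iff.1 (inv_mem he) (u : E)).1 u.2
      rwa [inv_inv] at this⟩
    have hσ : Function.Bijective σ := by
      refine ⟨fun a b h => Subtype.ext ?_, ?_⟩
      · have h' : e⁻¹ * (a : E) * e = e⁻¹ * (b : E) * e := congrArg Subtype.val h
        exact mul_left_cancel (mul_right_cancel h')
      · intro b
        refine ⟨⟨e * b * e⁻¹, (mem_normalizer_iff.1 he (b : E)).1 b.2⟩, Subtype.ext ?_⟩
        show e⁻¹ * (e * b * e⁻¹) * e = b
        group
    refine Fintype.prod_bijective σ hσ _ _ fun u => ?_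
    show φ (u : E) (φ e v) = φ e (φ (e⁻¹ * u * e) v)
    rw [← MulAut.mul_apply, ← MulAut.mul_apply, ← map_mul, ← map_mul]
    congr 2
    group
  have hker : ∀ e ∈ N, ∀ v ∈ nm.ker, φ e v ∈ nm.ker := fun e he v hv => by
    rw [MonoidHom.mem_ker] at hv ⊢
    rw [hinv e he, hv, map_one]
  let ψ : N →* MulAut nm.ker :=
    { toFun := fun e =>
        { toFun := fun v => ⟨φ (e : E) v, hker e e.2 v v.2⟩
          invFun := fun v => ⟨φ ((e : E)⁻¹) v, hker _ (inv_mem e.2) v v.2⟩
          left_inv := fun v => Subtype.ext (by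
            show φ ((e : E)⁻¹) (φ (e : E) v) = v
            rw [← MulAut.mul_apply, ← map_mul, inv_mul_cancel, map_one, MulAut.one_apply])
          right_inv := fun v => Subtype.ext (by
            show φ (e : E) (φ ((e : E)⁻¹) v) = v
            rw [← MulAut.mul_apply, ← map_mul, mul_inv_cancel, map_one, MulAut.one_apply])
          map_mul' := fun a b => Subtype.ext (map_mul (φ (e : E)) (a : X) b) }
      map_one' := MulEquiv.ext fun v => Subtype.ext (show φ (1 : E) (v : X) = v by simp)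
      map_mul' := fun a b => MulEquiv.ext fun v => Subtype.ext
        (show φ ((a : E) * b) (v : X) = φ (a : E) (φ (b : E) v) by rw [map_mul, MulAut.mul_apply]) }
  have hcoz : ∀ z : X, z ^ s = 1 → z = 1 := fun z hz => orderOf_eq_one_iff.1
    (Nat.eq_one_of_dvd_coprimes hco (orderOf_dvd_of_pow_eq_one hz) (orderOf_dvd_natCard z))
  have hψ : ∀ e : N, e ≠ 1 → ∀ v : nm.ker, ψ e v = v → v = 1 := by
    intro e he v hv
    have h1 : φ (e : E) (v : X) = v := congrArg Subtype.val hv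
    have h2 := hF (e : E) (fun h => he (Subtype.ext h)) _ h1
    refine Subtype.ext (hcoz _ ?_)
    have h3 : nm (v : X) = 1 := v.2
    rw [hnm] at h3
    simp only [h2] at h3
    rw [Finset.prod_const, Finset.card_univ, ← Nat.card_eq_fintype_card, hY] at h3
    exact h3
  have hYN : Y ≤ N := le_normalizer
  have hpow := fun v : nm.ker => CfsgLib.Solvable.pow_eq_one_of_fpf ψ hψ (p := t) (q := s)
    (Y.subgroupOf N) (by rw [Nat.card_congr (subgroupOfEquivOfLe hYN).toEquiv, hY]) hs.one_lt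
    (x := ⟨x, hxn⟩) (by
      rw [mem_normalizer_iff]
      intro z
      rw [mem_subgroupOf, mem_subgroupOf]
      exact mem_normalizer_iff.1 hxn z)
    (fun h => hxY h) (fun u hu => Subtype.ext (by simpa using hord u hu)) v
  intro y hy v
  have h1 : φ y v * v⁻¹ ∈ nm.ker := by
    rw [MonoidHom.mem_ker, map_mul, map_inv]
    refine mul_inv_eq_one.2 ?_
    rw [hnm, hnm]
    refine Fintype.prod_equiv (Equiv.mulRight (⟨y, hy⟩ : Y)) _ _ fun u => ?_
    show φ (u : E) (φ y v) = φ ((u : E) * y) v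
    rw [map_mul, MulAut.mul_apply]
  have h2 : (φ y v * v⁻¹) ^ s = 1 := congrArg Subtype.val (hpow ⟨_, h1⟩)
  exact mul_inv_eq_one.1 (hcoz _ h2)

/-- Elements `u * x` with `u` in a normalised subgroup of prime order not centralised by `x`. -/
theorem twist {E : Type*} [Group E] {s t : ℕ} (hs : s.Prime) {y x : E} (hy : orderOf y = s)
    (hx : x ^ t = 1) (hxn : x ∈ normalizer ((zpowers y : Subgroup E) : Set E)) (hc : x * y ≠ y * x) :
    x ∉ zpowers y ∧ ∀ u ∈ zpowers y, (u * x) ^ t = 1 := by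
  refine ⟨fun h => ?_, fun u hu => ?_⟩
  · obtain ⟨i, rfl⟩ := h
    exact hc (Commute.zpow_self y i).eq
  · haveI : Fact (Nat.card (zpowers y)).Prime := ⟨by rw [Nat.card_zpowers, hy]; exact hs⟩
    have key : ∀ k : ℕ, (u * x) ^ k * (x ^ k)⁻¹ ∈ zpowers y := by
      intro k
      induction k with
      | zero => simp
      | succ k ih =>
        have h2 := (mem_normalizer_iff.1 (pow_mem hxn k) u).1 hu
        have e : (u * x) ^ (k + 1) * (x ^ (k + 1))⁻¹ =
            ((u * x) ^ k * (x ^ k)⁻¹) * (x ^ k * u * (x ^ k)⁻¹) := by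
          rw [pow_succ, pow_succ]; group
        rw [e]
        exact mul_mem ih h2
    have hmem : (u * x) ^ t ∈ zpowers y := by simpa [hx] using key t
    set z := (u * x) ^ t with hz
    have hcm : Commute z (u * x) := (Commute.refl (u * x)).pow_left t
    have hzu : Commute z u := by
      obtain ⟨i, hi⟩ := hmem
      obtain ⟨j, hj⟩ := hu
      rw [← hi, ← hj]
      exact Commute.zpow_zpow_self y i j
    have hzx : Commute z x := by
      have := hzu.inv_right.mul_right hcm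
      rwa [inv_mul_cancel_left] at this
    by_contra hne
    refine hc ?_
    have hgen : zpowers (⟨z, hmem⟩ : zpowers y) = ⊤ :=
      (eq_bot_or_eq_top_of_prime_card _).resolve_left fun h =>
        hne (congrArg Subtype.val (zpowers_eq_bot.1 h))
    obtain ⟨i, hi⟩ := mem_zpowers_iff.1 (hgen ▸ mem_top (⟨y, mem_zpowers y⟩ : zpowers y))
    have hi' : z ^ i = y := by simpa using congrArg Subtype.val hi
    rw [← hi']
    exact (hzx.symm.zpow_right i).eq

variable {G : Type*} [Group G]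

/-- Conjugation of `N` on `X`, killing `H`. -/
noncomputable def quotAct {N X H : Subgroup G} [hn : (H.subgroupOf N).Normal]
    (hNX : N ≤ normalizer (X : Set G)) (hH : H ≤ centralizer (X : Set G)) :
    N ⧸ H.subgroupOf N →* MulAut X :=
  QuotientGroup.lift _ (X.normalizerMonoidHom.comp (inclusion hNX)) fun a ha => by
    rw [MonoidHom.mem_ker]
    refine MulEquiv.ext fun v => Subtype.ext ?_
    show (a : G) * v * (a : G)⁻¹ = v
    rw [← mem_centralizer_iff.1 (hH (mem_subgroupOf.1 ha)) v v.2, mul_inv_cancel_right]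

theorem quotAct_apply {N X H : Subgroup G} [hn : (H.subgroupOf N).Normal]
    (hNX : N ≤ normalizer (X : Set G)) (hH : H ≤ centralizer (X : Set G)) (g : N) (v : X) :
    ((quotAct hNX hH (QuotientGroup.mk g) v : X) : G) = (g : G) * v * (g : G)⁻¹ := rfl

/-- The action on the quotient fixes only central elements. -/
theorem central_of_fixed [Finite G] {N X H : Subgroup G} [hn : (H.subgroupOf N).Normal]
    (hNX : N ≤ normalizer (X : Set G)) (hH : H ≤ centralizer (X : Set G))
    (hX : ∀ a ∈ X, ∀ b ∈ X, a * b = b * a)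
    (hF : ∀ e ∈ N, e ∉ H → ∀ v ∈ X, e * v = v * e → v ∈ center G)
    {t s : ℕ} [Fact t.Prime] (hs : s.Prime) (hco : s.Coprime (Nat.card X))
    {y x : N ⧸ H.subgroupOf N} (hy : orderOf y = s)
    (hxn : x ∈ normalizer ((zpowers y : Subgroup _) : Set (N ⧸ H.subgroupOf N))) (hxY : x ∉ zpowers y)
    (hord : ∀ u ∈ zpowers y, (u * x) ^ t = 1) : ∀ v ∈ X, v ∈ center G := by
  letI : CommGroup X := { (inferInstance : Group X) with
    mul_comm := fun a b => Subtype.ext (hX _ a.2 _ b.2) }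
  intro v hv
  have hF' : ∀ e : N ⧸ H.subgroupOf N, e ≠ 1 → ∀ v : X, quotAct hNX hH e v = v → (v : G) ∈ center G := by
    intro e he v hv
    obtain ⟨g, rfl⟩ := QuotientGroup.mk_surjective e
    refine hF g g.2 (fun h => he ((QuotientGroup.eq_one_iff g).2 (mem_subgroupOf.2 h))) v v.2 ?_
    have h1 : (g : G) * v * (g : G)⁻¹ = v := (quotAct_apply hNX hH g v).symm.trans (congrArg Subtype.val hv)
    exact mul_inv_eq_iff_eq_mul.1 h1
  have h := fixed_of_semiregular (quotAct hNX hH) (fun e he v hv e' => by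
      obtain ⟨g, rfl⟩ := QuotientGroup.mk_surjective e'
      refine Subtype.ext ?_
      rw [quotAct_apply, mem_center_iff.1 (hF' e he v hv) g, mul_inv_cancel_right])
    hs (zpowers y) (by rw [Nat.card_zpowers, hy]) hco hxn hxY hord y (mem_zpowers y) ⟨v, hv⟩
  exact hF' y (fun e => hs.one_lt.ne' (by rw [← hy, e, orderOf_one])) ⟨v, hv⟩ h

/-- An elementary abelian semiregular quotient is cyclic. -/
theorem relIndex_dvd_prime [Finite G] {N X H : Subgroup G} (hHN : H ≤ N) (hnN : N ≤ normalizer (H : Set G))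
    (hNX : N ≤ normalizer (X : Set G)) (hH : H ≤ centralizer (X : Set G))
    (hX : ∀ a ∈ X, ∀ b ∈ X, a * b = b * a)
    (hF : ∀ e ∈ N, e ∉ H → ∀ v ∈ X, e * v = v * e → v ∈ center G)
    {p : ℕ} [hp : Fact p.Prime] (hco : p.Coprime (Nat.card X)) (hne : ¬ X ≤ center G)
    (hexp : ∀ g ∈ N, g ^ p ∈ H) (hcomm : ∀ a ∈ N, ∀ b ∈ N, a * b * a⁻¹ * b⁻¹ ∈ H) :
    H.relIndex N ∣ p := by
  haveI : (H.subgroupOf N).Normal := normal_subgroupOf_of_le_normalizer hnN
  have hab : ∀ a b : N ⧸ H.subgroupOf N, a * b = b * a := fun a b => by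
    obtain ⟨a, rfl⟩ := QuotientGroup.mk_surjective a
    obtain ⟨b, rfl⟩ := QuotientGroup.mk_surjective b
    rw [← commutatorElement_eq_one_iff_mul_comm, ← QuotientGroup.mk'_apply, ← QuotientGroup.mk'_apply,
      ← map_commutatorElement, QuotientGroup.mk'_apply, QuotientGroup.eq_one_iff, mem_subgroupOf]
    simpa [commutatorElement_def] using hcomm a a.2 b b.2
  have hpow : ∀ a : N ⧸ H.subgroupOf N, a ^ p = 1 := fun a => by
    obtain ⟨a, rfl⟩ := QuotientGroup.mk_surjective a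
    rw [← QuotientGroup.mk_pow, QuotientGroup.eq_one_iff, mem_subgroupOf]
    simpa using hexp a a.2
  show Nat.card (N ⧸ H.subgroupOf N) ∣ p
  by_cases h1 : ∀ a : N ⧸ H.subgroupOf N, a = 1
  · haveI : Subsingleton (N ⧸ H.subgroupOf N) := ⟨fun a b => (h1 a).trans (h1 b).symm⟩
    rw [Nat.card_of_subsingleton (1 : N ⧸ H.subgroupOf N)]
    exact one_dvd p
  push Not at h1
  obtain ⟨y, hy⟩ := h1
  have hyo : orderOf y = p := orderOf_eq_prime (hpow y) hy
  by_cases h2 : ∀ a, a ∈ zpowers y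
  · rw [← orderOf_eq_card_of_forall_mem_zpowers h2, hyo]
  push Not at h2
  obtain ⟨x, hx⟩ := h2
  exact absurd (central_of_fixed hNX hH hX hF hp.out hco hyo
    (mem_normalizer_iff.2 fun z => by rw [hab x z, mul_inv_cancel_right]) hx
    fun u _ => hpow (u * x)) hne

/-- If every element of order prime to `q` centralises a Sylow `q`-subgroup, the Sylow `q`-subgroup
is normal and centralised by all of them. -/
theorem normal_sylow_of_centralize [Finite G] {q : ℕ} [hq : Fact q.Prime]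
    (h : ∀ g : G, ¬ q ∣ orderOf g → ∃ Q : Sylow q G, (Q : Subgroup G) ≤ C g) (Q : Sylow q G) :
    (Q : Subgroup G).Normal ∧ ∀ g : G, ¬ q ∣ orderOf g → (Q : Subgroup G) ≤ C g := by
  have htop : normalizer ((Q : Subgroup G) : Set G) = ⊤ := by
    refine CfsgLib.FGS.eq_top_of_forall_exists_conj fun g => ?_
    obtain ⟨a, b, ha, hb, hab⟩ := exists_parts q g
    obtain ⟨Q₁, hQ₁⟩ := h _ hb
    have hmem : g ^ a ∈ C (g ^ b) := mem_C.2 (Commute.pow_pow_self g a b).eq
    obtain ⟨V, hV1, hV2, hV3, hV4⟩ := exists_pSubgroup_ge (zpowers_le.2 hmem) (isPGroup_of_pElem ha)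
    obtain ⟨Q₂, hQ₂⟩ := hV3.exists_le_sylow
    have hQV : (Q₂ : Subgroup G) = V := (Subgroup.eq_of_le_of_card_ge hQ₂ (by
      rw [hV4, Q₂.card_eq_multiplicity, ← Q₁.card_eq_multiplicity]
      exact card_le_of_pSubgroup hQ₁ Q₁.2)).symm
    obtain ⟨c, hc⟩ := MulAction.exists_smul_eq G Q₂ Q
    refine ⟨c, ?_⟩
    rw [← hc, ← hab, show c * (g ^ a * g ^ b) * c⁻¹ = (c * g ^ a * c⁻¹) * (c * g ^ b * c⁻¹) by group]
    have hQeq : ∀ u, c * u * c⁻¹ ∈ ((c • Q₂ : Sylow q G) : Subgroup G) ↔ u ∈ V := fun u => by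
      rw [Sylow.coe_subgroup_smul, CfsgLib.FGS.mem_conj_smul, hQV]
      simp [mul_assoc]
    refine mul_mem (le_normalizer ((hQeq _).2 (hV1 (mem_zpowers _)))) (centralizer_le_normalizer _ ?_)
    refine mem_centralizer_iff.2 fun u hu => ?_
    rw [Sylow.coe_subgroup_smul, SetLike.mem_coe, CfsgLib.FGS.mem_conj_smul, hQV] at hu
    have h2 := mem_C.1 (hV2 hu)
    calc u * (c * g ^ b * c⁻¹) = c * (c⁻¹ * u * c * g ^ b) * c⁻¹ := by group
      _ = c * g ^ b * c⁻¹ * u := by rw [h2]; group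
  haveI hn : (Q : Subgroup G).Normal := normalizer_eq_top_iff.1 htop
  haveI := Sylow.unique_of_normal Q hn
  refine ⟨hn, fun g hg => ?_⟩
  obtain ⟨Q₁, hQ₁⟩ := h g hg
  rwa [Subsingleton.elim Q Q₁]

/-- A solvable group in which every `q`-element centralises a Sylow `q`-subgroup has abelian Sylow
`q`-subgroups. -/
theorem comm_sylow_of_centralize [Finite G] (hsol : Group.IsSolvable G) {q : ℕ} [hq : Fact q.Prime]
    (h : ∀ g : G, IsPElem q g → ∃ Q : Sylow q G, (Q : Subgroup G) ≤ C g) (Q : Sylow q G) :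
    ∀ a ∈ (Q : Subgroup G), ∀ b ∈ (Q : Subgroup G), a * b = b * a := by
  haveI := hsol
  set R := Cfsg.pPrimeCore q G
  let π := QuotientGroup.mk' R
  have hπ : Function.Surjective π := QuotientGroup.mk'_surjective R
  haveI : Group.IsSolvable (G ⧸ R) := Group.isSolvable_of_surjective hπ
  set O := Cfsg.pCore q (G ⧸ R)
  have hbot : Cfsg.pPrimeCore q (G ⧸ R) = ⊥ := CfsgLib.Cores.pPrimeCore_quotient_self q
  have hC := CfsgLib.Solvable.centralizer_pCore_le q hbot
  have key : ∀ a ∈ (Q : Subgroup G), π a ∈ O ∧ π a ∈ centralizer (O : Set (G ⧸ R)) := by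
    intro a ha
    obtain ⟨Q₁, hQ₁⟩ := h a (isPElem_of_mem Q.2 ha)
    have h1 : π a ∈ centralizer (O : Set (G ⧸ R)) := mem_centralizer_iff.2 fun u hu => by
      have h2 : u ∈ ((Q₁.mapSurjective hπ : Sylow q (G ⧸ R)) : Subgroup (G ⧸ R)) :=
        CfsgLib.Cores.pCore_le_sylow _ hu
      obtain ⟨w, hw, rfl⟩ := h2
      rw [← map_mul, ← map_mul, mem_C.1 (hQ₁ hw)]
    exact ⟨hC h1, h1⟩
  intro a ha b hb
  have h1 : π a * π b = π b * π a := mem_centralizer_iff.1 (key b hb).2 _ (key a ha).1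
  have h2 : ⁅a, b⁆ ∈ R ⊓ (Q : Subgroup G) := by
    refine mem_inf.2 ⟨?_, ?_⟩
    · rw [← QuotientGroup.ker_mk' R, MonoidHom.mem_ker, map_commutatorElement,
        commutatorElement_eq_one_iff_mul_comm]
      exact h1
    · rw [commutatorElement_def]
      exact mul_mem (mul_mem (mul_mem ha hb) (inv_mem ha)) (inv_mem hb)
  obtain ⟨k, hk⟩ := IsPGroup.iff_card.1 Q.2
  have hbotI : R ⊓ (Q : Subgroup G) = ⊥ := disjoint_iff.1 (disjoint_of_coprime_natCard (by
    rw [hk]; exact (CfsgLib.Cores.coprime_card_pPrimeCore (G := G) q).pow_right k))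
  rw [hbotI, mem_bot, commutatorElement_eq_one_iff_mul_comm] at h2
  exact h2

/-- A second-centre element inside a given subgroup normalised by a `p`-group. -/
theorem exists_second_centre [Finite G] {p : ℕ} [hp : Fact p.Prime] {P M : Subgroup G} (hP : IsPGroup p P)
    (hMP : M ≤ P) (hM : P ≤ normalizer (M : Set G)) (hne : ∃ x ∈ M, x ∉ center G) :
    ∃ x ∈ M, x ∉ center G ∧ x ^ p ∈ center G ∧ ∀ g ∈ P, g * x * g⁻¹ * x⁻¹ ∈ center G := by
  set K : Subgroup P := (center G).subgroupOf P with hK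
  haveI : K.Normal := inferInstance
  set Mb : Subgroup (P ⧸ K) := (M.subgroupOf P).map (QuotientGroup.mk' K) with hMb
  haveI hMn : Mb.Normal := (normal_subgroupOf_of_le_normalizer hM).map _ (QuotientGroup.mk'_surjective K)
  have hQ : IsPGroup p (P ⧸ K) := hP.to_quotient K
  obtain ⟨x₀, hx₀, hx₀c⟩ := hne
  have hne' : Mb ≠ ⊥ := fun hb => by
    have h1 : QuotientGroup.mk' K ⟨x₀, hMP hx₀⟩ ∈ Mb := ⟨⟨x₀, hMP hx₀⟩, hx₀, rfl⟩
    rw [hb, mem_bot, QuotientGroup.mk'_apply, QuotientGroup.eq_one_iff] at h1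
    exact hx₀c h1
  have hz : Mb ⊓ center (P ⧸ K) ≠ ⊥ := CfsgLib.PGroup.inf_center_ne_bot hQ Mb hne'
  haveI : Nontrivial (Mb ⊓ center (P ⧸ K) : Subgroup _) := (nontrivial_iff_ne_bot _).2 hz
  obtain ⟨j, hj0, hj⟩ := (hQ.to_subgroup (Mb ⊓ center (P ⧸ K))).nontrivial_iff_card.1 inferInstance
  obtain ⟨⟨w, hwM, hwc⟩, hw⟩ := exists_prime_orderOf_dvd_card' (G := (Mb ⊓ center (P ⧸ K) : Subgroup _)) p
    (hj ▸ dvd_pow_self p hj0.ne')
  rw [← Subgroup.orderOf_coe] at hw
  obtain ⟨⟨x, hxP⟩, hxM, rfl⟩ := hwM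
  refine ⟨x, hxM, fun hxc => ?_, ?_, fun g hg => ?_⟩
  · have : (QuotientGroup.mk' K ⟨x, hxP⟩) = 1 := (QuotientGroup.eq_one_iff _).2 hxc
    simp only at hw
    rw [this, orderOf_one] at hw
    exact hp.out.one_lt.ne hw
  · have h1 : QuotientGroup.mk' K ((⟨x, hxP⟩ : P) ^ p) = 1 := by
      rw [map_pow, ← hw, pow_orderOf_eq_one]
    exact (QuotientGroup.eq_one_iff (N := K) ((⟨x, hxP⟩ : P) ^ p)).1 h1
  · have h1 : QuotientGroup.mk' K ⁅(⟨g, hg⟩ : P), (⟨x, hxP⟩ : P)⁆ = 1 := by
      rw [map_commutatorElement, commutatorElement_eq_one_iff_mul_comm]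
      exact mem_center_iff.1 hwc _
    exact (QuotientGroup.eq_one_iff (N := K) ⁅(⟨g, hg⟩ : P), (⟨x, hxP⟩ : P)⁆).1 h1

end CfsgLib.FGS.CoprimeMultiple
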