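import Mathlib
import Cfsg.Agent.Lib.FGS.CoprimeMultiple.Tools
import Cfsg.Agent.Lib.FGS.EqualClasses
import Cfsg.Agent.Lib.Solvable.KegelWielandt
import Cfsg.Agent.Lib.OddLocal.ActionTools

/-!
# A primary element of size `m` for a prime not dividing `n`
-/

set_option autoImplicit false
set_option linter.unusedSectionVars false

namespace CfsgLib.FGS.CoprimeMultiple

open Subgroup

variable {G : Type*} [Group G] [Finite G] {m n : ℕ}

theorem eq_of_fac {U H : Subgroup G} (hUH : U ≤ H) (h : ∀ t : ℕ, t.Prime → fac t H ≤ fac t U) :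
    U = H := by
  refine Subgroup.eq_of_le_of_card_ge hUH (Nat.le_of_dvd Nat.card_pos ?_)
  exact (Nat.factorization_prime_le_iff_dvd Nat.card_pos.ne' Nat.card_pos.ne').1 h

/-- A subgroup with all elements of `t`-power order of `H` has the full `t`-part. -/
theorem fac_le_of_pElem {t : ℕ} [ht : Fact t.Prime] {U H : Subgroup G}
    (h : ∀ g ∈ H, IsPElem t g → g ∈ U) : fac t H ≤ fac t U := by
  obtain ⟨V, hVH, hV, hcard⟩ := exists_pSubgroup t H
  have := card_le_of_pSubgroup (fun v hv => h v (hVH hv) (isPElem_of_mem hV hv)) hV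
  rwa [hcard, Nat.pow_le_pow_iff_right ht.out.one_lt] at this

theorem not_dvd_orderOf {t r : ℕ} [ht : Fact t.Prime] [hr : Fact r.Prime] (hne : t ≠ r) {g : G}
    (hg : IsPElem t g) : ¬ r ∣ orderOf g := by
  obtain ⟨k, hk⟩ := hg
  rw [hk]
  intro h
  exact hne ((Nat.prime_dvd_prime_iff_eq hr.out ht.out).1 (hr.out.dvd_of_dvd_pow h)).symm

/-- A normal subgroup supplemented by all centralisers has the same class sizes. -/
theorem equal_of_cover {A : Type*} [Group A] [Finite A] {K : Subgroup A} [K.Normal] {n : ℕ}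
    (hC : ∀ k ∈ K, C k ⊔ K = ⊤) (hidx : ∀ k : K, k ∉ center K → (C (k : A)).index = n) :
    EqualClasses.Equal K n := by
  intro k hk
  have hmap : (centralizer ({k} : Set K)).map K.subtype = C (k : A) ⊓ K := by
    ext a
    constructor
    · rintro ⟨a, ha, rfl⟩
      exact ⟨mem_C.2 (congrArg Subtype.val (mem_centralizer_singleton_iff.1 ha)), a.2⟩
    · exact fun ha => ⟨⟨a, ha.2⟩, mem_centralizer_singleton_iff.2 (Subtype.ext (mem_C.1 ha.1)), rfl⟩
  have h2 : (centralizer ({k} : Set K)).index = (C (k : A)).relIndex K := by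
    rw [← inf_relIndex_right, ← hmap, relIndex, subgroupOf,
      comap_map_eq_self_of_injective K.subtype_injective]
  have h3 : K.relIndex (C (k : A)) = K.index := by
    rw [← relIndex_sup_right (H := C (k : A)) (K := K), hC k k.2]
    exact relIndex_top_right K
  set D : Subgroup A := C (k : A)
  have h4 : Nat.card (D ⊓ K : Subgroup A) * K.relIndex D = Nat.card D := by
    rw [← inf_relIndex_left (H := D) (K := K), ← relIndex_bot_left, ← relIndex_bot_left]
    exact relIndex_mul_relIndex ⊥ _ _ bot_le inf_le_left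
  have h5 : Nat.card (D ⊓ K : Subgroup A) * D.relIndex K = Nat.card K := by
    rw [← inf_relIndex_right (H := D) (K := K), ← relIndex_bot_left, ← relIndex_bot_left]
    exact relIndex_mul_relIndex ⊥ _ _ bot_le inf_le_right
  rw [h3] at h4
  have h6 : Nat.card K * K.index = Nat.card D * n := by
    rw [K.card_mul_index, ← hidx k hk, D.card_mul_index]
  rw [← h5, ← h4] at h6
  rw [h2]
  have hpos : 0 < Nat.card (D ⊓ K : Subgroup A) * K.index :=
    Nat.mul_pos Nat.card_pos (Nat.pos_of_ne_zero index_ne_zero_of_finite)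
  refine Nat.eq_of_mul_eq_mul_left hpos ?_
  rw [← h6]
  ring

namespace Sizes

variable (hs : Sizes G m n)
include hs

set_option maxHeartbeats 1000000 in
/-- If the `r'`-elements of a size `m` centraliser are central in it, its `r`-elements are too. -/
theorem false_of_central {r : ℕ} [hr : Fact r.Prime] (hrn : r ∣ n) {x : G} (hx : idx x = m)
    (hxr : ¬ r ∣ orderOf x) (hT : ∀ t ∈ C x, ¬ r ∣ orderOf t → C x ≤ C t) {v : G} (hv : IsPElem r v)
    (hvx : v ∈ C x) (hnv : ¬ C x ≤ C v) : False := by
  have hrm := hs.not_dvd_of_dvd_n hr.out hrn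
  obtain ⟨R, hR⟩ := hs.exists_sylow_le_C hrm hx
  have hvc : v ∉ center G := fun h => hnv ((mem_center_iff_C.1 h).symm ▸ le_top)
  have hxv : idx (x * v) = m * n :=
    (hs.le_or_mn hx hvx (hv.coprime_of hxr).symm).resolve_left hnv
  have hlow : fac r (center G) < fac r (C (x * v)) := by
    rw [C_mul (mem_C.1 hvx).symm (hv.coprime_of hxr).symm]
    exact fac_center_lt (le_inf (center_le_C x) (center_le_C v)) ⟨hvx, self_mem_C v⟩ hv hvc
  have hconj : ∀ u : G, IsPElem r u → ∃ k : G, k⁻¹ * u * k ∈ (R : Subgroup G) := fun u hu => by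
    obtain ⟨R', hR'⟩ := exists_sylow_mem hu
    obtain ⟨k, hk⟩ := MulAction.exists_smul_eq G R R'
    refine ⟨k, ?_⟩
    rwa [← hk, Sylow.coe_subgroup_smul, CfsgLib.FGS.mem_conj_smul] at hR'
  have key : ∀ u : G, IsPElem r u → u ∉ center G → ∃ k : G, C u ≤ C (k * x * k⁻¹) := by
    intro u hu huc
    rcases hs.m_or_mn huc with hum | humn
    · obtain ⟨R₂, hR₂⟩ := hs.exists_sylow_le_C hrm hum
      have huR₂ := hs.mem_sylow_of_le_C hu R₂ hR₂
      obtain ⟨k, hk⟩ := MulAction.exists_smul_eq G R R₂
      refine ⟨k, ?_⟩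
      set u' := k⁻¹ * u * k
      have hu'R : u' ∈ (R : Subgroup G) := by
        rwa [← hk, Sylow.coe_subgroup_smul, CfsgLib.FGS.mem_conj_smul] at huR₂
      have hle : C x ≤ C u' := by
        have h1 : C u' ⊓ C x = C x := by
          refine eq_of_fac inf_le_right fun t ht => ?_
          haveI := Fact.mk ht
          rcases eq_or_ne t r with rfl | hne
          · have hRle : (R : Subgroup G) ≤ C u' ⊓ C x := le_inf (fun w hw => mem_C.2 (by
              have h2 := mem_C.1 (hR₂ (show k * w * k⁻¹ ∈ (R₂ : Subgroup G) by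
                rw [← hk, Sylow.coe_subgroup_smul, CfsgLib.FGS.mem_conj_smul]
                simpa [mul_assoc] using hw))
              calc w * (k⁻¹ * u * k) = k⁻¹ * (k * w * k⁻¹ * u) * k := by group
                _ = k⁻¹ * u * k * w := by rw [h2]; group)) hR
            have h3 := fac_le_of_le t hRle
            have h4 : fac t (R : Subgroup G) = (Nat.card G).factorization t := by
              rw [fac, R.card_eq_multiplicity, Nat.factorization_pow, Finsupp.smul_apply,
                ht.factorization_self, smul_eq_mul, mul_one]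
            have := fac_add_index t (C x)
            omega
          · exact fac_le_of_pElem fun g hg hpg =>
              ⟨mem_C_comm (hT g hg (not_dvd_orderOf hne hpg) (hR hu'R)), hg⟩
        exact h1.ge.trans inf_le_left
      have h2 : C x = C u' := hs.eq_of_le_m hx (fun h => huc (by
        have := (conj_mem_center (g := k) (x := u')).2 h
        simpa [u', mul_assoc] using this)) hle
      rw [C_conj, h2, ← C_conj]
      simp [u', mul_assoc]
    · obtain ⟨k, hk⟩ := hconj u hu
      refine ⟨k, hs.absorb humn ?_ ?_⟩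
      · have h2 := mem_C.1 (hR hk)
        refine mem_C.2 ?_
        calc k * x * k⁻¹ * u = k * (x * (k⁻¹ * u * k)) * k⁻¹ := by group
          _ = u * (k * x * k⁻¹) := by rw [← h2]; group
      · have : orderOf (k * x * k⁻¹) = orderOf x :=
          orderOf_injective (MulAut.conj k).toMonoidHom (MulAut.conj k).injective x
        rw [this]
        exact hu.coprime_of hxr
  have hcentral : ∀ k t : G, t ∈ C (k * x * k⁻¹) → ¬ r ∣ orderOf t → C (k * x * k⁻¹) ≤ C t := by
    intro k t ht htr
    rw [C_conj, mem_map_equiv, MulAut.conj_symm_apply] at ht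
    have h1 := hT _ ht (by
      rwa [show orderOf (k⁻¹ * t * k) = orderOf t by
        simpa using orderOf_injective (MulAut.conj k⁻¹).toMonoidHom (MulAut.conj k⁻¹).injective t])
    rw [C_conj]
    refine (Subgroup.map_mono h1).trans (le_of_eq ?_)
    rw [← C_conj]
    simp [mul_assoc]
  have hyA : ∀ y : G, ¬ r ∣ orderOf y → y ∉ center G → ∃ k : G, C (k * x * k⁻¹) = C y := by
    intro y hy hyc
    have hu : ∃ u ∈ C y, IsPElem r u ∧ u ∉ center G := by
      refine exists_pElem_of_lt (lt_of_lt_of_le hlow ?_)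
      rcases hs.m_or_mn hyc with h | h
      · have h1 := hs.fac_C_m h r
        have h2 := hs.fac_C_mn hxv r
        omega
      · have h1 := hs.fac_C_mn h r
        have h2 := hs.fac_C_mn hxv r
        omega
    obtain ⟨u, huy, hu, huc⟩ := hu
    obtain ⟨k, hk⟩ := key u hu huc
    refine ⟨k, hs.eq_of_le_m ((idx_conj k x).trans hx) hyc (hcentral k y (hk (mem_C_comm huy)) hy)⟩
  have hcov : C x = ⊤ := by
    refine CfsgLib.FGS.eq_top_of_forall_exists_conj fun g => ?_
    obtain ⟨a, b, ha, hb, hab⟩ := exists_parts r g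
    by_cases hbc : g ^ b ∈ center G
    · obtain ⟨k, hk⟩ := hconj _ ha
      refine ⟨k⁻¹, ?_⟩
      rw [← hab, inv_inv, show k⁻¹ * (g ^ a * g ^ b) * k = (k⁻¹ * g ^ a * k) * (k⁻¹ * g ^ b * k) by group,
        show k⁻¹ * g ^ b * k = g ^ b by rw [mul_assoc, ← mem_center_iff.1 hbc k, inv_mul_cancel_left]]
      exact mul_mem (hR hk) (center_le_C x hbc)
    · obtain ⟨k, hk⟩ := hyA _ hb hbc
      refine ⟨k⁻¹, ?_⟩
      have h1 : g ∈ C (g ^ b) := mem_C.2 (Commute.pow_right (Commute.refl g) b).eq
      rw [← hk, C_conj, mem_map_equiv, MulAut.conj_symm_apply] at h1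
      simpa using h1
  exact hs.not_center_m hx (mem_center_iff_C.2 hcov)

set_option maxHeartbeats 1000000 in
/-- A primary element of size `m` for a prime not dividing `n` gives an abelian size `m` centraliser. -/
theorem abelian_of_primary {q : ℕ} [hq : Fact q.Prime] (hqn : ¬ q ∣ n) {x : G} (hxq : IsPElem q x)
    (hx : idx x = m) : ∃ z : G, idx z = m ∧ ∀ a ∈ C z, ∀ b ∈ C z, a * b = b * a := by
  set A : Subgroup G := C x with hA
  have hfull : ∀ g ∈ A, ¬ q ∣ orderOf g → fac q A ≤ fac q (C g ⊓ A) := by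
    intro g hg hgq
    rcases hs.le_or_mn hx hg (hxq.coprime_of hgq) with h | h
    · rw [inf_eq_right.2 h]
    · have h1 : C (x * g) = A ⊓ C g := C_mul (mem_C.1 hg).symm (hxq.coprime_of hgq)
      rw [inf_comm, ← h1]
      exact (hs.fac_C_eq hqn (hs.not_center_m hx) (hs.not_center_mn h)).le
  have hsylA : ∀ g : A, ¬ q ∣ orderOf g → ∃ Q : Sylow q A, (Q : Subgroup A) ≤ C g := by
    intro g hg
    obtain ⟨U, hU, hUp, hUc⟩ := exists_pSubgroup q (C (g : G) ⊓ A)
    have hUA : U ≤ A := hU.trans inf_le_right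
    have hle : fac q (C (g : G) ⊓ A) = fac q A :=
      le_antisymm (fac_le_of_le q inf_le_right) (hfull g g.2 (by rwa [Subgroup.orderOf_coe]))
    refine ⟨Sylow.ofCard (U.subgroupOf A) (by
      rw [Nat.card_congr (subgroupOfEquivOfLe hUA).toEquiv, hUc, hle]), fun a ha => ?_⟩
    exact mem_C.2 (Subtype.ext (mem_C.1 (hU (mem_subgroupOf.1 ha)).1))
  obtain ⟨Q⟩ : Nonempty (Sylow q A) := inferInstance
  obtain ⟨hQn, hQc⟩ := normal_sylow_of_centralize hsylA Q
  haveI := hQn
  obtain ⟨K, hK⟩ := exists_right_complement'_of_coprime (N := (Q : Subgroup A)) (by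
    obtain ⟨k, hk⟩ := IsPGroup.iff_card.1 Q.2
    rw [hk]
    exact Nat.Coprime.pow_left k (hq.out.coprime_iff_not_dvd.2 Q.not_dvd_index))
  have hKi : Nat.card K = (Q : Subgroup A).index := (hK.symm.index_eq_card).symm
  have hKq : ¬ q ∣ Nat.card K := hKi ▸ Q.not_dvd_index
  have hKQ : ∀ k ∈ K, (Q : Subgroup A) ≤ C k := fun k hk =>
    hQc k fun h => hKq (h.trans (orderOf_dvd_natCard K hk))
  haveI hKn : K.Normal := by
    refine normalizer_eq_top_iff.1 (top_le_iff.1 ?_)
    rw [← hK.sup_eq_top]
    refine sup_le (fun u hu => centralizer_le_normalizer _ ?_) le_normalizer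
    exact mem_centralizer_iff.2 fun k hk => (mem_C.1 (hKQ k hk hu)).symm
  have hKmem : ∀ g : A, ¬ q ∣ orderOf g → g ∈ K := by
    intro g hg
    rw [← QuotientGroup.eq_one_iff (N := K), ← orderOf_eq_one_iff]
    have h1 : orderOf (QuotientGroup.mk g : A ⧸ K) ∣ Nat.card (Q : Subgroup A) := by
      rw [← hK.index_eq_card, index_eq_card]
      exact orderOf_dvd_natCard _
    have h2 := orderOf_map_dvd (QuotientGroup.mk' K) g
    obtain ⟨k, hk⟩ := IsPGroup.iff_card.1 Q.2
    rw [hk] at h1
    exact Nat.eq_one_of_dvd_coprimes (Nat.Coprime.pow_left k (hq.out.coprime_iff_not_dvd.2 hg)) h1 h2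
  have hCtop : ∀ k ∈ K, C k ⊔ K = ⊤ := fun k hk => by
    rw [← top_le_iff, ← hK.sup_eq_top]
    exact sup_le ((hKQ k hk).trans le_sup_left) le_sup_right
  -- the classes of `K`
  have hidxA : ∀ g : A, ¬ q ∣ orderOf g → g ∉ center A → (C g).index = n := by
    intro g hg hgc
    have hgq : ¬ q ∣ orderOf (g : G) := by rwa [Subgroup.orderOf_coe]
    rcases hs.le_or_mn hx g.2 (hxq.coprime_of hgq) with h | h
    · exact absurd (mem_center_iff.2 fun a => Subtype.ext (mem_C.1 (h a.2))) hgc
    · have e1 : (C g).map A.subtype = C (x * g) := by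
        rw [C_mul (mem_C.1 g.2).symm (hxq.coprime_of hgq)]
        ext a
        constructor
        · rintro ⟨a, ha, rfl⟩
          exact ⟨a.2, mem_C.2 (congrArg Subtype.val (mem_C.1 ha))⟩
        · exact fun ha => ⟨⟨a, ha.1⟩, mem_C.2 (Subtype.ext (mem_C.1 ha.2)), rfl⟩
      have e2 := (C g).card_mul_index
      rw [← card_map_of_injective A.subtype_injective, e1] at e2
      have e3 := (C (x * g)).card_mul_index
      rw [show (C (x * g)).index = m * n from h, ← A.card_mul_index,
        show A.index = m from hx] at e3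
      have hm0 : 0 < m := Nat.pos_of_ne_zero hs.ne_zero_m
      have e4 : Nat.card (C (x * g)) * n * m = Nat.card A * m := by rw [← e3]; ring
      refine Nat.eq_of_mul_eq_mul_left (Nat.card_pos (α := C (x * g))) ?_
      rw [Nat.eq_of_mul_eq_mul_right hm0 e4]
      exact e2
  have hcentA : ∀ k : K, k ∈ center K → (k : A) ∈ center A := fun k hk => by
    refine mem_center_iff_C.2 (top_le_iff.1 ?_)
    rw [← hK.sup_eq_top]
    exact sup_le (hKQ k k.2) fun a ha =>
      mem_C.2 (congrArg Subtype.val (mem_center_iff.1 hk ⟨a, ha⟩))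
  have hEq : EqualClasses.Equal K n := equal_of_cover hCtop fun k hk =>
    hidxA k (fun h => hKq (h.trans (orderOf_dvd_natCard K k.2))) fun h =>
      hk (mem_center_iff.2 fun a => Subtype.ext (mem_center_iff.1 h a))
  by_cases hKc : ∀ k : K, k ∈ center K
  · have hcent : ∀ g ∈ A, ¬ q ∣ orderOf g → A ≤ C g := fun g hg hgq a ha => by
      have := hcentA ⟨⟨g, hg⟩, hKmem ⟨g, hg⟩ (by rwa [orderOf_mk])⟩ (hKc _)
      exact mem_C.2 (congrArg Subtype.val (mem_center_iff.1 this ⟨a, ha⟩))
    obtain ⟨r, hr, hrn⟩ := Nat.exists_prime_and_dvd hs.one_lt_n.ne'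
    haveI := Fact.mk hr
    have hrq : r ≠ q := fun e => hqn (e ▸ hrn)
    have hrm := hs.not_dvd_of_dvd_n hr hrn
    obtain ⟨R, hR⟩ := hs.exists_sylow_le_C hrm hx
    obtain ⟨z, hzR, hzc⟩ := hs.exists_noncentral_pElem (hrn.trans (dvd_mul_left n m)) R
    have hzr : IsPElem r z := isPElem_of_mem R.2 hzR
    have hzq := not_dvd_orderOf hrq hzr
    have hCz : C x = C z := hs.eq_of_le_m hx hzc (hcent z (hR hzR) hzq)
    have hzm : idx z = m := by rw [idx, ← hCz]; exact hx
    refine ⟨z, hzm, fun a ha b hb => ?_⟩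
    rw [← hCz] at ha hb
    have hall : A ≤ C a := by
      obtain ⟨i, j, hi, hj, hij⟩ := exists_parts q a
      intro c hc
      rw [← hij]
      refine mem_C.2 ((show Commute c (a ^ i) from mem_C.1 ?_).mul_right
        (mem_C.1 (hcent _ (pow_mem ha j) hj hc))).eq
      have hico : (orderOf z).Coprime (orderOf (a ^ i)) := hzr.coprime hi hrq
      rcases hs.le_or_mn hzm (hCz ▸ pow_mem ha i) hico with h | h
      · exact h (hCz ▸ hc)
      · exfalso
        have hle : fac r A ≤ fac r (C (z * a ^ i)) := by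
          rw [C_mul (mem_C.1 (hCz ▸ pow_mem ha i : a ^ i ∈ C z)).symm hico, ← hCz]
          refine fac_le_of_pElem fun g hg hgr => ⟨hg, mem_C_comm ?_⟩
          exact hcent g hg (not_dvd_orderOf hrq hgr) (pow_mem ha i)
        have h1 : fac r A + m.factorization r = (Nat.card G).factorization r := hs.fac_C_m hx r
        have h2 := hs.fac_C_mn h r
        have h3 := hr.factorization_pos_of_dvd (by have := hs.one_lt_n; omega) hrn
        rw [Nat.factorization_eq_zero_of_not_dvd hrm] at h1 h2
        omega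
    exact (mem_C.1 (hall hb)).symm
  · exfalso
    push Not at hKc
    obtain ⟨r, hr, hrn⟩ := Nat.exists_prime_and_dvd hs.one_lt_n.ne'
    haveI := Fact.mk hr
    have hrq : r ≠ q := fun e => hqn (e ▸ hrn)
    have hrm := hs.not_dvd_of_dvd_n hr hrn
    have hidx : ∀ t : ℕ, t.Prime → t ≠ r → ¬ t ∣ (center K).index := by
      intro t ht htr h
      haveI := Fact.mk ht
      obtain ⟨S⟩ : Nonempty (Sylow t K) := inferInstance
      exact S.not_dvd_index (h.trans (index_dvd_of_le (EqualClasses.sylow_central hEq S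
        fun htn => htr (EqualClasses.prime_unique hEq hKc ht hr htn hrn))))
    have hcK : ∀ k : K, ¬ r ∣ orderOf k → k ∈ center K := fun k hk => by
      rw [← QuotientGroup.eq_one_iff (N := center K), ← orderOf_eq_one_iff]
      by_contra h1
      obtain ⟨t, ht, htd⟩ := Nat.exists_prime_and_dvd h1
      refine hidx t ht (fun e => ?_) (htd.trans (index_eq_card (center K) ▸ orderOf_dvd_natCard _))
      exact hk (e ▸ htd.trans (orderOf_map_dvd (QuotientGroup.mk' (center K)) k))
    -- a noncentral `r`-element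
    obtain ⟨v₀, hv₀⟩ := hKc
    obtain ⟨i, j, hi, hj, hij⟩ := exists_parts r v₀
    have hvK : v₀ ^ i ∉ center K := fun h => hv₀ (hij ▸ mul_mem h (hcK _ hj))
    set v : G := (((v₀ ^ i : K) : A) : G)
    have hvr : IsPElem r v := by
      obtain ⟨e, he⟩ := hi
      exact ⟨e, by rw [← he, Subgroup.orderOf_coe, Subgroup.orderOf_coe]⟩
    have hvA : v ∈ A := ((v₀ ^ i : K) : A).2
    have hnv : ¬ A ≤ C v := fun h => hvK (mem_center_iff.2 fun a =>
      Subtype.ext (Subtype.ext (mem_C.1 (h (a : A).2))))
    have hvc : v ∉ center G := fun h => hnv ((mem_center_iff_C.1 h).symm ▸ le_top)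
    set Qg : Subgroup G := (Q : Subgroup A).map A.subtype with hQg
    have hQp : IsPGroup q Qg := Q.2.map _
    have hQcard : Nat.card Qg = q ^ fac q A := by
      rw [hQg, card_map_of_injective A.subtype_injective, Q.card_eq_multiplicity]
    have hQv : Qg ≤ C v := by
      rintro _ ⟨u, hu, rfl⟩
      exact mem_C.2 (congrArg Subtype.val (mem_C.1 (hKQ _ (v₀ ^ i).2 hu)))
    have hQab : ∀ a ∈ Qg, ∀ b ∈ Qg, a * b = b * a := by
      rcases hs.m_or_mn hvc with hvm | hvmn
      · set H : Subgroup A := (Q : Subgroup A) ⊔ (center K).map K.subtype with hH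
        have hHnil : Group.IsNilpotent H := by
          refine CfsgLib.OddLocal.isNilpotent_sup Q.2.isNilpotent ?_
            (normalizer_eq_top_iff.2 hQn ▸ le_top) ?_
          · haveI : Group.IsNilpotent (center K) := ⟨1, by
              rw [Subgroup.upperCentralSeries_one, eq_top_iff]
              exact fun z _ => mem_center_iff.2 fun w => Subtype.ext (mem_center_iff.1 z.2 (w : K))⟩
            exact Group.nilpotent_of_mulEquiv ((center K).equivMapOfInjective K.subtype K.subtype_injective)
          · intro u hu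
            refine centralizer_le_normalizer _ (mem_centralizer_iff.2 ?_)
            rintro _ ⟨k, -, rfl⟩
            exact (mem_C.1 (hKQ _ k.2 hu)).symm
        set Hg : Subgroup G := H.map A.subtype with hHg
        have hHgle : Hg ≤ C v := by
          rintro _ ⟨u, hu, rfl⟩
          have hu2 : H ≤ C ((v₀ ^ i : K) : A) := by
            refine sup_le (hKQ _ (v₀ ^ i).2) ?_
            rintro _ ⟨k, hk, rfl⟩
            exact mem_C.2 (congrArg Subtype.val (mem_center_iff.1 hk (v₀ ^ i)).symm)
          exact mem_C.2 (congrArg Subtype.val (mem_C.1 (hu2 hu)))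
        have hHmem : ∀ g ∈ A, ∀ t : ℕ, t.Prime → t ≠ r → IsPElem t g → g ∈ Hg := by
          intro g hg t ht htr hpg
          haveI := Fact.mk ht
          refine ⟨⟨g, hg⟩, ?_, rfl⟩
          rcases eq_or_ne t q with rfl | htq
          · refine mem_sup_left (CfsgLib.FGS.mem_of_mem_normalizer Q ?_ ?_)
            · obtain ⟨e, he⟩ := hpg
              exact ⟨e, by rw [orderOf_mk, he]⟩
            · rw [normalizer_eq_top_iff.2 hQn]; exact mem_top _
          · have hgq := not_dvd_orderOf htq hpg
            have hmemK := hKmem ⟨g, hg⟩ (by rwa [orderOf_mk])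
            exact mem_sup_right ⟨⟨_, hmemK⟩, hcK _ (by
              rw [orderOf_mk, orderOf_mk]; exact not_dvd_orderOf htr hpg), rfl⟩
        haveI := Fact.mk hr
        obtain ⟨R₂, hR₂⟩ := hs.exists_sylow_le_C hrm hvm
        have hcop : (((R₂ : Subgroup G).subgroupOf (C v)).index).Coprime
            ((Hg.subgroupOf (C v)).index) := by
          refine Nat.coprime_of_dvd fun t ht h1 h2 => ?_
          haveI := Fact.mk ht
          rcases eq_or_ne t r with rfl | htr
          · exact R₂.not_dvd_index (h1.trans (relIndex_dvd_index_of_le hR₂))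
          · have hfull : fac t (C v) ≤ fac t Hg := by
              rw [show fac t (C v) = fac t A from
                congrArg (fun c : ℕ => c.factorization t) (card_C_eq (hvm.trans hx.symm))]
              exact fac_le_of_pElem fun g hg hpg => hHmem g hg t ht htr hpg
            have e := (Hg.subgroupOf (C v)).card_mul_index
            rw [Nat.card_congr (subgroupOfEquivOfLe hHgle).toEquiv] at e
            have h3 : (Hg.subgroupOf (C v)).index.factorization t = 0 := by
              have h4 : fac t (C v) = fac t Hg + (Hg.subgroupOf (C v)).index.factorization t := by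
                rw [fac, ← e, Nat.factorization_mul Nat.card_pos.ne' index_ne_zero_of_finite,
                  Finsupp.add_apply]
              omega
            exact (ht.factorization_pos_of_dvd index_ne_zero_of_finite h2).ne' h3
        have hsol : Group.IsSolvable (C v) := CfsgLib.Solvable.isSolvable_of_nilpotent_mul
          ((R₂.2.comap_subtype (K := C v)).isNilpotent)
          (Group.nilpotent_of_mulEquiv ((H.equivMapOfInjective A.subtype A.subtype_injective).trans
            (subgroupOfEquivOfLe hHgle).symm))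
          (CfsgLib.Solvable.mul_of_coprime_index hcop)
        have hQC : ∃ Q' : Sylow q (C v), (Q' : Subgroup (C v)) = Qg.subgroupOf (C v) :=
          ⟨Sylow.ofCard (Qg.subgroupOf (C v)) (by
            rw [Nat.card_congr (subgroupOfEquivOfLe hQv).toEquiv, hQcard,
              card_C_eq (hvm.trans hx.symm)]), rfl⟩
        obtain ⟨Q', hQ'⟩ := hQC
        have hcom := comm_sylow_of_centralize hsol (q := q) (fun w hw => by
          have hw' : IsPElem q (w : G) := by
            obtain ⟨e, he⟩ := hw
            exact ⟨e, by rw [Subgroup.orderOf_coe, he]⟩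
          obtain ⟨U, hU, hUp, hUc⟩ := exists_pSubgroup q (C (w : G) ⊓ C v)
          have hle : fac q (C (w : G) ⊓ C v) = fac q (C v) := by
            rcases hs.le_or_mn hvm w.2 (hvr.coprime hw' hrq) with h | h
            · rw [inf_eq_right.2 h]
            · rw [inf_comm, ← C_mul (mem_C.1 w.2).symm (hvr.coprime hw' hrq)]
              exact hs.fac_C_eq hqn (hs.not_center_mn h) hvc
          refine ⟨Sylow.ofCard (U.subgroupOf (C v)) (by
            rw [Nat.card_congr (subgroupOfEquivOfLe (hU.trans inf_le_right)).toEquiv, hUc, hle]),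
            fun a ha => ?_⟩
          exact mem_C.2 (Subtype.ext (mem_C.1 (hU (mem_subgroupOf.1 ha)).1))) Q'
        intro a ha b hb
        exact congrArg Subtype.val (hcom ⟨a, hQv ha⟩ (by rw [hQ']; exact ha) ⟨b, hQv hb⟩
          (by rw [hQ']; exact hb))
      · intro a ha b hb
        have hbq : IsPElem q b := isPElem_of_mem hQp hb
        exact mem_C.1 (hs.absorb hvmn (hQv hb) (hvr.coprime hbq hrq) (hQv ha))
    refine hs.false_of_central hrn hx (not_dvd_orderOf hrq.symm hxq) (fun t ht htr => ?_) hvr hvA hnv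
    obtain ⟨a, b, ha, hb, hab⟩ := exists_parts q t
    intro c hc
    rw [← hab]
    have key : ∀ g ∈ A, ¬ q ∣ orderOf g → ¬ r ∣ orderOf g → A ≤ C g := fun g hg hgq hgr a ha => by
      have := hcentA ⟨⟨g, hg⟩, hKmem ⟨g, hg⟩ (by rwa [orderOf_mk])⟩
        (hcK _ (by rwa [orderOf_mk, orderOf_mk]))
      exact mem_C.2 (congrArg Subtype.val (mem_center_iff.1 this ⟨a, ha⟩))
    have htb : A ≤ C (t ^ b) :=
      key _ (pow_mem ht b) hb fun h => htr (h.trans (orderOf_pow_dvd b))
    have hta : A ≤ C (t ^ a) := by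
      intro c hc
      have haQ : (⟨t ^ a, pow_mem ht a⟩ : A) ∈ (Q : Subgroup A) := by
        refine CfsgLib.FGS.mem_of_mem_normalizer Q ?_ (by
          rw [normalizer_eq_top_iff.2 hQn]; exact mem_top _)
        obtain ⟨e, he⟩ := ha
        exact ⟨e, by rw [orderOf_mk, he]⟩
      have : C (⟨t ^ a, pow_mem ht a⟩ : A) = ⊤ := by
        rw [← top_le_iff, ← hK.sup_eq_top]
        refine sup_le (fun u hu => mem_C.2 (Subtype.ext ?_)) fun k hk => mem_C_comm (hKQ k hk haQ)
        exact hQab (u : G) ⟨u, hu, rfl⟩ (t ^ a) ⟨_, haQ, rfl⟩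
      have h9 : (⟨c, hc⟩ : A) ∈ C (⟨t ^ a, pow_mem ht a⟩ : A) := by
        rw [this]; exact mem_top _
      exact mem_C.2 (congrArg Subtype.val (mem_C.1 h9))
    exact mem_C.2 ((show Commute c (t ^ a) from mem_C.1 (hta hc)).mul_right (mem_C.1 (htb hc))).eq

end Sizes

end CfsgLib.FGS.CoprimeMultiple
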