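import Mathlib
import Cfsg.Agent.Lib.FGS.CoprimeMultiple.PiPrimary
import Cfsg.Agent.Lib.Solvable.BurnsideHall

/-!
# All primary elements of size `m` are for primes dividing `n`: centralisers of `p`-elements
-/

set_option autoImplicit false
set_option linter.unusedSectionVars false

namespace CfsgLib.FGS.CoprimeMultiple

open Subgroup

variable {G : Type*} [Group G] [Finite G] {m n : ℕ}

/-- If a full `p`-subgroup of `H` is abelian, all `p`-subgroups of `H` are. -/
theorem comm_pGroup_of_full {p : ℕ} [Fact p.Prime] {H U V : Subgroup G} (hUH : U ≤ H)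
    (hUc : Nat.card U = p ^ fac p H) (hU : ∀ a ∈ U, ∀ b ∈ U, a * b = b * a) (hVH : V ≤ H)
    (hV : IsPGroup p V) : ∀ a ∈ V, ∀ b ∈ V, a * b = b * a := by
  let S : Sylow p H := Sylow.ofCard (U.subgroupOf H) (by
    rw [Nat.card_congr (subgroupOfEquivOfLe hUH).toEquiv, hUc])
  obtain ⟨T, hT⟩ := (hV.comap_subtype (K := H)).exists_le_sylow
  obtain ⟨c, hc⟩ := MulAction.exists_smul_eq H T S
  intro a ha b hb
  have key : ∀ u ∈ V, (c : G) * u * (c : G)⁻¹ ∈ U := fun u hu => by
    have h2 : c * ⟨u, hVH hu⟩ * c⁻¹ ∈ ((c • T : Sylow p H) : Subgroup H) := by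
      rw [Sylow.coe_subgroup_smul]
      exact smul_mem_pointwise_smul _ (MulAut.conj c) _ (hT hu)
    rw [hc] at h2
    exact h2
  have h := hU _ (key a ha) _ (key b hb)
  calc a * b = (c : G)⁻¹ * ((c : G) * a * (c : G)⁻¹ * ((c : G) * b * (c : G)⁻¹)) * c := by group
    _ = b * a := by rw [h]; group

/-- In an abelian subgroup a full `p`-subgroup contains all `p`-elements. -/
theorem mem_part {p : ℕ} [Fact p.Prime] {B U : Subgroup G} (hB : ∀ a ∈ B, ∀ b ∈ B, a * b = b * a)
    (hUB : U ≤ B) (hUc : Nat.card U = p ^ fac p B) {u : G} (hu : u ∈ B) (hp : IsPElem p u) : u ∈ U := by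
  obtain ⟨c, hc, hcu⟩ := exists_conj_mem hUB hUc hu hp
  rwa [hB c hc u hu, mul_inv_cancel_right] at hcu

theorem part_normalized {p : ℕ} [Fact p.Prime] {B U : Subgroup G}
    (hB : ∀ a ∈ B, ∀ b ∈ B, a * b = b * a) (hUB : U ≤ B) (hUc : Nat.card U = p ^ fac p B) :
    normalizer (B : Set G) ≤ normalizer (U : Set G) := by
  have hUp : IsPGroup p U := IsPGroup.of_card hUc
  intro g hg
  rw [mem_normalizer_iff]
  intro u
  constructor
  · exact fun hu => mem_part hB hUB hUc ((mem_normalizer_iff.1 hg u).1 (hUB hu))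
      (isPElem_conj (isPElem_of_mem hUp hu) g)
  · intro hu
    refine mem_part hB hUB hUc ((mem_normalizer_iff.1 hg u).2 (hUB hu)) ?_
    have := isPElem_conj (isPElem_of_mem hUp hu) g⁻¹
    simpa [mul_assoc] using this

theorem part_coprime {p q : ℕ} [hp : Fact p.Prime] [hq : Fact q.Prime] (hne : p ≠ q) {U : Subgroup G} {k : ℕ}
    (hU : Nat.card U = q ^ k) : p.Coprime (Nat.card U) := by
  rw [hU]
  exact Nat.Coprime.pow_right k ((Nat.coprime_primes hp.out hq.out).2 hne)

/-- An element outside a subgroup has a power of prime power order outside it. -/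
theorem exists_primary_not_mem {H : Subgroup G} {g : G} (hg : g ∉ H) :
    ∃ p k : ℕ, p.Prime ∧ IsPElem p (g ^ k) ∧ g ^ k ∉ H ∧ p ∣ orderOf g := by
  induction h : orderOf g using Nat.strong_induction_on generalizing g with
  | _ d ih =>
  subst h
  have h1 : orderOf g ≠ 1 := fun e => hg (by rw [orderOf_eq_one_iff.1 e]; exact one_mem _)
  obtain ⟨q, hq, hqd⟩ := Nat.exists_prime_and_dvd h1
  haveI := Fact.mk hq
  obtain ⟨a, b, ha, hb, hab⟩ := exists_parts q g
  by_cases hac : g ^ a ∈ H
  · have hbc : g ^ b ∉ H := fun hbc => hg (hab ▸ mul_mem hac hbc)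
    have hlt : orderOf (g ^ b) < orderOf g :=
      lt_of_le_of_ne (Nat.le_of_dvd (orderOf_pos g) (orderOf_pow_dvd b)) fun e => hb (e ▸ hqd)
    obtain ⟨p, k, hp, hk, hkc, hd⟩ := ih _ hlt hbc rfl
    exact ⟨p, b * k, hp, by rwa [pow_mul], by rwa [pow_mul], hd.trans (orderOf_pow_dvd b)⟩
  · exact ⟨q, a, hq, ha, hac, hqd⟩

/-- All primary elements of size `m` belong to primes dividing `n`. -/
def OnlyN (G : Type*) [Group G] (m n : ℕ) : Prop :=
  ∀ (q : ℕ) (x : G), q.Prime → IsPElem q x → (centralizer ({x} : Set G)).index = m → q ∣ n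

namespace Sizes

variable (hs : Sizes G m n) (hnp : OnlyN G m n)
include hs hnp

theorem idx_mn {q : ℕ} (hq : q.Prime) (hqn : ¬ q ∣ n) {x : G} (hx : IsPElem q x) (hxc : x ∉ center G) :
    idx x = m * n :=
  (hs.m_or_mn hxc).resolve_left fun h => hqn (hnp q x hq hx h)

/-- The centraliser of a noncentral `p`-element, `p ∤ n`, is abelian and lies below some size `m` one. -/
theorem struct {p : ℕ} [hp : Fact p.Prime] (hpn : ¬ p ∣ n) {w : G} (hw : IsPElem p w)
    (hwc : w ∉ center G) : (∀ a ∈ C w, ∀ b ∈ C w, a * b = b * a) ∧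
      ∃ r e, r.Prime ∧ r ∣ n ∧ IsPElem r e ∧ e ∈ C w ∧ idx e = m ∧ C w ≤ C e := by
  have hwmn := hs.idx_mn hnp hp.out hpn hw hwc
  obtain ⟨x₀, hx₀⟩ := hs.exM
  obtain ⟨r, k, hr, her, hem, -⟩ := hs.exists_primary hx₀
  set e₀ := x₀ ^ k
  have hrn : r ∣ n := hnp r e₀ hr her hem
  haveI := Fact.mk hr
  have hrp : r ≠ p := fun e => hpn (e ▸ hrn)
  have hrm := hs.not_dvd_of_dvd_n hr hrn
  have he0c : e₀ ∉ center G := hs.not_center_m hem
  -- the `r`-part of a size `m * n` centraliser is above that of the centre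
  obtain ⟨w₀, hw₀, hw₀p, hw₀c⟩ := exists_pElem_of_lt (hs.fac_C_gt hpn hw hwc he0c)
  have hw₀mn := hs.idx_mn hnp hp.out hpn hw₀p hw₀c
  have hlow : fac r (center G) < fac r (C w) := by
    rw [show fac r (C w) = fac r (C w₀) from
      congrArg (fun c : ℕ => c.factorization r) (card_C_eq (hwmn.trans hw₀mn.symm))]
    exact fac_center_lt (center_le_C w₀) (mem_C_comm hw₀) her he0c
  obtain ⟨u, hu, hur, huc⟩ := exists_pElem_of_lt hlow
  obtain ⟨e, he, her', hem'⟩ : ∃ e ∈ C w, IsPElem r e ∧ idx e = m := by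
    rcases hs.m_or_mn huc with hum | humn
    · exact ⟨u, hu, hur, hum⟩
    · have heq : C w = C u := hs.eq_of_le_mn humn (hs.absorb hwmn hu (hw.coprime hur hrp.symm))
      obtain ⟨R, hR⟩ := exists_sylow_mem hur
      obtain ⟨R₀, hR₀⟩ := hs.exists_sylow_le_C hrm hem
      have he₀R := hs.mem_sylow_of_le_C her R₀ hR₀
      obtain ⟨c, hc⟩ := MulAction.exists_smul_eq G R₀ R
      refine ⟨c * e₀ * c⁻¹, ?_, isPElem_conj her c, (idx_conj c e₀).trans hem⟩
      have h1 : c⁻¹ * u * c ∈ (R₀ : Subgroup G) := by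
        rwa [← hc, Sylow.coe_subgroup_smul, CfsgLib.FGS.mem_conj_smul] at hR
      rw [heq]
      refine mem_C.2 ?_
      calc c * e₀ * c⁻¹ * u = c * (e₀ * (c⁻¹ * u * c)) * c⁻¹ := by group
        _ = u * (c * e₀ * c⁻¹) := by rw [← mem_C.1 (hR₀ h1)]; group
  have hle : C w ≤ C e := hs.absorb hwmn he (hw.coprime her' hrp.symm)
  refine ⟨?_, r, e, hr, hrn, her', he, hem', hle⟩
  -- an abelian full `p`-subgroup suffices
  suffices hU : ∃ U ≤ C w, Nat.card U = p ^ fac p (C w) ∧ ∀ a ∈ U, ∀ b ∈ U, a * b = b * a by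
    obtain ⟨U, hUw, hUc, hUab⟩ := hU
    set Zc := C w ⊓ centralizer (C w : Set G) with hZc
    have hZt : ∀ t : ℕ, ∀ g ∈ C w, t.Prime → t ≠ p → IsPElem t g → g ∈ Zc := by
      intro t g hg ht htp hgt
      haveI := Fact.mk ht
      exact ⟨hg, mem_centralizer_iff.2 fun d hd =>
        mem_C.1 (hs.absorb hwmn hg (hw.coprime hgt htp.symm) hd)⟩
    have htop : U ⊔ Zc = C w := by
      refine eq_of_fac (sup_le hUw inf_le_left) fun t ht => ?_
      haveI := Fact.mk ht
      rcases eq_or_ne t p with rfl | htp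
      · refine le_trans (le_of_eq ?_) (fac_le_of_le t (le_sup_left : U ≤ U ⊔ Zc))
        conv_rhs => rw [fac, hUc, Nat.factorization_pow, Finsupp.smul_apply, ht.factorization_self,
          smul_eq_mul, mul_one]
      · exact fac_le_of_pElem fun g hg hgt => mem_sup_right (hZt t g hg ht htp hgt)
    have hself : U ⊔ Zc ≤ centralizer ((U ⊔ Zc : Subgroup G) : Set G) := by
      refine sup_le (le_centralizer_iff.2 (sup_le ?_ ?_)) (le_trans inf_le_right (by rw [htop]))
      · exact fun a ha => mem_centralizer_iff.2 fun b hb => hUab b hb a ha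
      · exact fun z hz => mem_centralizer_iff.2 fun b hb => mem_centralizer_iff.1 hz.2 b (hUw hb)
    intro a ha b hb
    rw [← htop] at ha hb
    exact mem_centralizer_iff.1 (hself hb) a ha
  obtain ⟨U, hUw, hUp, hUc⟩ := exists_pSubgroup p (C w)
  refine ⟨U, hUw, hUc, ?_⟩
  have hee : fac p (C w) = fac p (C e) := hs.fac_C_eq hpn hwc (hs.not_center_m hem')
  -- it is enough to find an abelian full `p`-subgroup of `C e`
  have viaA : ∀ V ≤ C e, Nat.card V = p ^ fac p (C e) → (∀ a ∈ V, ∀ b ∈ V, a * b = b * a) →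
      ∀ a ∈ U, ∀ b ∈ U, a * b = b * a := fun V hV hVc hVab =>
    comm_pGroup_of_full hV hVc hVab (hUw.trans hle) hUp
  by_cases ha : ∃ (q : ℕ) (y : G), q.Prime ∧ q ≠ p ∧ ¬ q ∣ n ∧ IsPElem q y ∧ y ∉ center G
  · obtain ⟨q, y, hq, hqp, hqn, hy, hyc⟩ := ha
    haveI := Fact.mk hq
    obtain ⟨k, hk, hkq, hkc⟩ := exists_pElem_of_lt (hs.fac_C_gt hqn hy hyc hwc)
    have hkmn := hs.idx_mn hnp hq hqn hkq hkc
    have heq : C w = C k := hs.eq_of_le_mn hkmn (hs.absorb hwmn hk (hw.coprime hkq hqp.symm))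
    intro a haU b hbU
    have hb' : b ∈ C k := heq ▸ hUw hbU
    have := hs.absorb hkmn hb' (hkq.coprime (isPElem_of_mem hUp hbU) hqp) (heq ▸ hUw haU : a ∈ C k)
    exact mem_C.1 this
  by_cases hb : ∃ s, s.Prime ∧ s ∣ n ∧ s ≠ r
  · obtain ⟨s, hsp, hsn, hsr⟩ := hb
    haveI := Fact.mk hsp
    have hsm := hs.not_dvd_of_dvd_n hsp hsn
    have hsp' : s ≠ p := fun e => hpn (e ▸ hsn)
    obtain ⟨g, hg, hgs, hgn⟩ : ∃ g ∈ C e, IsPElem s g ∧ ¬ C e ≤ C g := by
      by_contra hc
      push Not at hc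
      have h1 : fac s (C e) ≤ fac s (C w) := fac_le_of_pElem fun g hg hgs =>
        mem_C_comm (hc g hg hgs (hle (self_mem_C w)))
      have h2 := hs.fac_C_m hem' s
      have h3 := hs.fac_C_mn hwmn s
      have h4 := hsp.factorization_pos_of_dvd (by have := hs.one_lt_n; omega) hsn
      omega
    have hD : idx (e * g) = m * n :=
      (hs.le_or_mn hem' hg (her'.coprime hgs hsr.symm)).resolve_left hgn
    have hDe : C (e * g) ≤ C e :=
      (C_mul (mem_C.1 hg).symm (her'.coprime hgs hsr.symm)).le.trans inf_le_left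
    obtain ⟨V, hV, hVp, hVc⟩ := exists_pSubgroup p (C (e * g))
    refine viaA V (hV.trans hDe) ?_ fun a haV b hbV => ?_
    · rw [hVc, hs.fac_C_eq hpn (hs.not_center_mn hD) (hs.not_center_m hem')]
    · by_cases hbc : b ∈ center G
      · exact mem_center_iff.1 hbc a
      · have hbp := isPElem_of_mem hVp hbV
        have hco : (orderOf b).Coprime (orderOf (e * g)) := by
          refine hbp.coprime_of fun h => ?_
          have hd := h.trans (Commute.orderOf_mul_dvd_lcm (show Commute e g from (mem_C.1 hg).symm))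
          rcases (Nat.Prime.dvd_mul hp.out).1 (hd.trans (Nat.lcm_dvd_mul _ _)) with h1 | h1
          · exact not_dvd_orderOf hrp her' h1
          · exact not_dvd_orderOf hsp' hgs h1
        have hbmn := hs.idx_mn hnp hp.out hpn hbp hbc
        have heq := hs.eq_of_le_mn hD (hs.absorb hbmn (mem_C_comm (hV hbV)) hco)
        exact mem_C.1 (heq ▸ hV haV : a ∈ C b)
  -- otherwise `G` is solvable
  push Not at ha hb
  have hsolG : Group.IsSolvable G := by
    have hquot : Group.IsSolvable (G ⧸ center G) := by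
      refine CfsgLib.Solvable.isSolvable_of_primeFactors_card_le_two
        (le_trans (Finset.card_le_card (t := {p, r}) fun t ht => ?_) (Finset.card_le_two))
      haveI := Fact.mk (Nat.prime_of_mem_primeFactors ht)
      obtain ⟨q', hq'⟩ := exists_prime_orderOf_dvd_card' (G := G ⧸ center G) t (Nat.dvd_of_mem_primeFactors ht)
      obtain ⟨g, rfl⟩ := QuotientGroup.mk_surjective q'
      obtain ⟨i, j, hi, hj, hij⟩ := exists_parts t g
      have hgi : g ^ i ∉ center G := fun h => by
        have h1 : (QuotientGroup.mk g : G ⧸ center G) = QuotientGroup.mk (g ^ j) := by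
          conv_lhs => rw [← hij]
          rw [QuotientGroup.mk_mul, (QuotientGroup.eq_one_iff _).2 h, one_mul]
        exact hj ((h1 ▸ hq').symm.dvd.trans (orderOf_map_dvd (QuotientGroup.mk' (center G)) _))
      rw [Finset.mem_insert, Finset.mem_singleton]
      by_contra hcon
      push Not at hcon
      exact hgi (ha t (g ^ i) Fact.out hcon.1
        (fun htn => hcon.2 (hb t Fact.out htn)) hi)
    haveI := hquot
    haveI : Group.IsSolvable (center G) := Group.isSolvable_of_comm fun a b =>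
      Subtype.ext (mem_center_iff.1 b.2 a)
    exact Group.isSolvable_of_ker_le_range (center G).subtype (QuotientGroup.mk' (center G))
      (by rw [QuotientGroup.ker_mk', Subgroup.range_subtype])
  haveI := hsolG
  obtain ⟨V, hV, hVp, hVc⟩ := exists_pSubgroup p (C e)
  let S : Sylow p (C e) := Sylow.ofCard (V.subgroupOf (C e)) (by
    rw [Nat.card_congr (subgroupOfEquivOfLe hV).toEquiv, hVc])
  have hcom := comm_sylow_of_centralize (G := C e) inferInstance (q := p) (fun a ha => by
    have ha' : IsPElem p (a : G) := by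
      obtain ⟨i, hi⟩ := ha
      exact ⟨i, by rw [Subgroup.orderOf_coe, hi]⟩
    by_cases hac : (a : G) ∈ center G
    · obtain ⟨Q⟩ : Nonempty (Sylow p (C e)) := inferInstance
      exact ⟨Q, fun b _ => mem_C.2 (Subtype.ext (mem_center_iff.1 hac b))⟩
    · have hamn := hs.idx_mn hnp hp.out hpn ha' hac
      have hale : C (a : G) ≤ C e :=
        hs.absorb hamn (mem_C_comm a.2) (ha'.coprime her' hrp.symm)
      obtain ⟨W, hW, hWp, hWc⟩ := exists_pSubgroup p (C (a : G))
      refine ⟨Sylow.ofCard (W.subgroupOf (C e)) (by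
        rw [Nat.card_congr (subgroupOfEquivOfLe (hW.trans hale)).toEquiv, hWc,
          hs.fac_C_eq hpn hac (hs.not_center_m hem')]), fun b hb' => ?_⟩
      exact mem_C.2 (Subtype.ext (mem_C.1 (hW (mem_subgroupOf.1 hb'))))) S
  exact viaA V hV hVc fun a haV b hbV =>
    congrArg Subtype.val (hcom ⟨a, hV haV⟩ haV ⟨b, hV hbV⟩ hbV)

/-- Noncentral elements of an abelian `C w` for primes not dividing `n` have the same centraliser. -/
theorem part_C_eq {p q : ℕ} [hp : Fact p.Prime] (hpn : ¬ p ∣ n) {w k : G} (hw : IsPElem p w)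
    (hwc : w ∉ center G) (hq : q.Prime) (hqn : ¬ q ∣ n) (hk : k ∈ C w) (hkq : IsPElem q k)
    (hkc : k ∉ center G) : C w = C k :=
  hs.eq_of_le_mn (hs.idx_mn hnp hq hqn hkq hkc) fun a ha =>
    mem_C.2 ((hs.struct hnp hpn hw hwc).1 a ha k hk)

/-- A `p`-element normalising a centraliser as above. -/
theorem exists_frame {p : ℕ} [hp : Fact p.Prime] (hpm : p ∣ m) :
    ∃ x g : G, IsPElem p x ∧ x ∉ center G ∧ x ^ p ∈ center G ∧ g ∉ C x ∧ g ^ p ∈ C x ∧
      g * x * g⁻¹ * x⁻¹ ∈ center G ∧ g ∈ normalizer (C x : Set G) ∧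
      (∀ k ∈ C x, g * k = k * g → k ∈ center G) ∧ m.factorization p = 1 ∧
      ∃ P : Sylow p G, x ∈ (P : Subgroup G) ∧ (P : Subgroup G) ≤ normalizer (C x : Set G) ∧
        ∀ s ∈ (P : Subgroup G), s * x * s⁻¹ * x⁻¹ ∈ center G := by
  have hpn := hs.not_dvd_of_dvd_m hp.out hpm
  obtain ⟨P⟩ : Nonempty (Sylow p G) := inferInstance
  obtain ⟨x, hxP, hxc, hxp, hxz⟩ := exists_second_centre P.2 le_rfl le_normalizer
    (hs.exists_noncentral_pElem (hpm.trans (dvd_mul_right m n)) P)
  have hxe : IsPElem p x := isPElem_of_mem P.2 hxP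
  obtain ⟨hab, r, e, hr, hrn, her, heB, hem, hle⟩ := hs.struct hnp hpn hxe hxc
  haveI := Fact.mk hr
  have hrp : r ≠ p := fun e => hpn (e ▸ hrn)
  have hPN : (P : Subgroup G) ≤ normalizer (C x : Set G) := by
    intro g hg
    have h1 : C (g * x * g⁻¹) = C x := by
      have hz := hxz g hg
      ext a
      rw [mem_C, mem_C]
      have e1 : g * x * g⁻¹ = (g * x * g⁻¹ * x⁻¹) * x := by group
      rw [e1]
      constructor
      · intro h
        refine mul_left_cancel (a := g * x * g⁻¹ * x⁻¹) ?_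
        rw [← mul_assoc, ← (mem_center_iff.1 hz a), mul_assoc, h]
        group
      · intro h
        rw [← mul_assoc, mem_center_iff.1 hz a, mul_assoc, h, ← mul_assoc]
    rw [mem_normalizer_iff]
    intro a
    conv_rhs => rw [← h1, C_conj, mem_map_equiv, MulAut.conj_symm_apply]
    simp [mul_assoc]
  obtain ⟨U, hUB, hUp, hUc⟩ := exists_pSubgroup p (C x)
  have hUN := part_normalized hab hUB hUc
  have hUP : U ≤ (P : Subgroup G) := by
    have hsup : IsPGroup p (U ⊔ (P : Subgroup G) : Subgroup G) :=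
      hUp.to_sup_of_normal_left' P.2 (hPN.trans hUN)
    rw [← P.3 hsup le_sup_right]
    exact le_sup_left
  have hPB : (P : Subgroup G) ⊓ C x = U := le_antisymm
    (fun a ha => mem_part hab hUB hUc ha.2 (isPElem_of_mem P.2 ha.1)) (le_inf hUP hUB)
  -- the kernel of the commutator map with `x`
  have hxyp : ∀ g ∈ (P : Subgroup G), g ^ p ∈ C x := by
    intro g hg
    set z := g * x * g⁻¹ * x⁻¹ with hz
    have hzc : z ∈ center G := hxz g hg
    have e1 : ∀ i : ℕ, g ^ i * x * (g ^ i)⁻¹ = z ^ i * x := by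
      intro i
      induction i with
      | zero => simp
      | succ i ih =>
        calc g ^ (i + 1) * x * (g ^ (i + 1))⁻¹ = g * (g ^ i * x * (g ^ i)⁻¹) * g⁻¹ := by
              rw [pow_succ']; group
          _ = g * z ^ i * x * g⁻¹ := by rw [ih]; group
          _ = z ^ (i + 1) * x := by
              rw [mem_center_iff.1 (pow_mem hzc i) g, pow_succ, hz]; group
    have e2 : z ^ p = 1 := by
      have h1 : (z * x) ^ p = g * x ^ p * g⁻¹ := by
        have := e1 1
        simp only [pow_one] at this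
        rw [← this, conj_pow]
      rw [(show Commute z x from (mem_center_iff.1 hzc x).symm).mul_pow, mem_center_iff.1 hxp g,
        mul_inv_cancel_right] at h1
      exact mul_eq_right.1 h1
    have h3 := e1 p
    rw [e2, one_mul] at h3
    exact mem_C.2 (mul_inv_eq_iff_eq_mul.1 h3)
  have hxcomm : ∀ a ∈ (P : Subgroup G), ∀ b ∈ (P : Subgroup G), a * b * a⁻¹ * b⁻¹ ∈ C x := by
    intro a ha b hb
    set za := a * x * a⁻¹ * x⁻¹
    set zb := b * x * b⁻¹ * x⁻¹
    have hza : za ∈ center G := hxz a ha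
    have hzb : zb ∈ center G := hxz b hb
    have ea : ∀ y ∈ center G, a * (y * x) * a⁻¹ = y * za * x := fun y hy => by
      rw [← mul_assoc, mem_center_iff.1 hy a]; simp only [za]; group
    have eb : ∀ y ∈ center G, b * (y * x) * b⁻¹ = y * zb * x := fun y hy => by
      rw [← mul_assoc, mem_center_iff.1 hy b]; simp only [zb]; group
    have h1 : a * b * x * (a * b)⁻¹ = b * a * x * (b * a)⁻¹ := by
      calc a * b * x * (a * b)⁻¹ = a * (zb * x) * a⁻¹ := by simp only [zb]; group
        _ = za * zb * x := by rw [ea zb hzb, mem_center_iff.1 hza zb]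
        _ = b * (za * x) * b⁻¹ := by rw [eb za hza]
        _ = b * a * x * (b * a)⁻¹ := by simp only [za]; group
    refine mem_C.2 ?_
    have h2 : a * b * a⁻¹ * b⁻¹ * (b * a * x * (b * a)⁻¹) * (a * b * a⁻¹ * b⁻¹)⁻¹
        = a * b * x * (a * b)⁻¹ := by group
    rw [← h1] at h2
    have h3 : a * b * x * (a * b)⁻¹ = za * zb * x := by
      calc a * b * x * (a * b)⁻¹ = a * (zb * x) * a⁻¹ := by simp only [zb]; group
        _ = za * zb * x := by rw [ea zb hzb, mem_center_iff.1 hza zb]
    rw [h3] at h2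
    set c := a * b * a⁻¹ * b⁻¹
    have hz2 : za * zb ∈ center G := mul_mem hza hzb
    have h4 : c * (za * zb * x) = za * zb * x * c := mul_inv_eq_iff_eq_mul.1 h2
    rw [← mul_assoc, mem_center_iff.1 hz2 c, mul_assoc (za * zb) c x, mul_assoc (za * zb) x c] at h4
    exact mul_left_cancel h4
  have hfac : fac p (C x) + m.factorization p = (Nat.card G).factorization p := by
    have := hs.fac_C_mn (hs.idx_mn hnp hp.out hpn hxe hxc) p
    rwa [Nat.factorization_eq_zero_of_not_dvd hpn, add_zero] at this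
  have hfpf : ∀ g ∈ (P : Subgroup G), g ∉ C x → ∀ k ∈ C x, g * k = k * g → k ∈ center G := by
    intro g hg hgx k hk hgk
    by_contra hkc
    obtain ⟨t, i, ht, htk, htc, -⟩ := exists_primary_pow hkc
    haveI := Fact.mk ht
    have hgki : g ∈ C (k ^ i) := mem_C.2 ((show Commute g k from hgk).pow_right i).eq
    have hBle : C x ≤ C (k ^ i) := fun a ha => mem_C.2 (hab a ha _ (pow_mem hk i))
    rcases hs.m_or_mn htc with h | h
    · have hU1 : U ⊔ zpowers g ≤ C (k ^ i) := sup_le (hUB.trans hBle) (zpowers_le.2 hgki)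
      have hU2 : IsPGroup p (U ⊔ zpowers g : Subgroup G) :=
        P.2.to_le (sup_le hUP (zpowers_le.2 hg))
      have h3 := card_le_of_pSubgroup hU1 hU2
      have h4 : fac p (C (k ^ i)) = fac p (C x) := hs.fac_C_eq hpn htc hxc
      have h5 : Nat.card U < Nat.card (U ⊔ zpowers g : Subgroup G) := by
        refine lt_of_le_of_ne (card_le_of_le le_sup_left) fun e => hgx ?_
        have h6 := Subgroup.eq_of_le_of_card_ge (le_sup_left : U ≤ U ⊔ zpowers g) e.ge
        exact hUB (h6.symm ▸ mem_sup_right (mem_zpowers g))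
      rw [h4] at h3
      omega
    · exact hgx ((hs.eq_of_le_mn h hBle).symm ▸ hgki)
  have hcardP : Nat.card (P : Subgroup G) = p ^ (fac p (C x) + m.factorization p) := by
    rw [P.card_eq_multiplicity, hfac]
  have hrel : U.relIndex (P : Subgroup G) = p ^ m.factorization p := by
    have h1 := relIndex_mul_relIndex ⊥ U (P : Subgroup G) bot_le hUP
    rw [relIndex_bot_left, relIndex_bot_left, hUc, hcardP, pow_add] at h1
    exact Nat.eq_of_mul_eq_mul_left (pow_pos hp.out.pos _) h1
  have hν : m.factorization p = 1 := by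
    obtain ⟨X, hXB, hXr, hXc⟩ := exists_pSubgroup r (C x)
    have heX : e ∈ X := mem_part hab hXB hXc heB her
    have hd := relIndex_dvd_prime (H := U) (N := (P : Subgroup G)) (X := X) hUP (hPN.trans hUN)
      (hPN.trans (part_normalized hab hXB hXc))
      (fun a ha => mem_centralizer_iff.2 fun b hb => hab b (hXB hb) a (hUB ha))
      (fun a ha b hb => hab a (hXB ha) b (hXB hb))
      (fun g hg hgU v hv hgv => hfpf g hg (fun h => hgU (hPB ▸ ⟨hg, h⟩)) v (hXB hv) hgv)
      (part_coprime hrp.symm hXc) (fun h => hs.not_center_m hem (h heX))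
      (fun g hg => hPB ▸ ⟨pow_mem hg p, hxyp g hg⟩)
      (fun a ha b hb => hPB ▸ mem_inf.2 ⟨mul_mem (mul_mem (mul_mem ha hb) (inv_mem ha)) (inv_mem hb),
        hxcomm a ha b hb⟩)
    rw [hrel] at hd
    have h1 := (Nat.pow_dvd_pow_iff_le_right (k := m.factorization p) (l := 1) hp.out.one_lt).1
      (by rwa [pow_one])
    have h2 := hp.out.factorization_pos_of_dvd hs.ne_zero_m hpm
    omega
  obtain ⟨g, hg, hgU⟩ : ∃ g ∈ (P : Subgroup G), g ∉ U := by
    by_contra hc
    push Not at hc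
    have := relIndex_eq_one.2 hc
    rw [hrel, hν, pow_one] at this
    exact hp.out.one_lt.ne' this
  have hgx : g ∉ C x := fun h => hgU (hPB ▸ ⟨hg, h⟩)
  exact ⟨x, g, hxe, hxc, hxp, hgx, hxyp g hg, hxz g hg, hPN hg, hfpf g hg hgx, hν, P, hxP, hPN, hxz⟩

end Sizes

end CfsgLib.FGS.CoprimeMultiple
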