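import Mathlib
import Cfsg.Agent.Lib.FGS.CoprimeMultiple.Frame
import Cfsg.Agent.Lib.Transfer.Frobenius
import Cfsg.Agent.Lib.Solvable.CoprimeAction
import Cfsg.Agent.Lib.Solvable.Product
import Cfsg.Agent.Lib.LocalEven.CoprimeGeneration
import Cfsg.Agent.Lib.Local.AB

/-!
# Some primary element of size `m` belongs to a prime not dividing `n`
-/

set_option autoImplicit false
set_option linter.unusedSectionVars false

namespace CfsgLib.FGS.CoprimeMultiple

open Subgroup

variable {G : Type*} [Group G] [Finite G] {m n : ℕ}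

theorem C_eq_normalize {B : Subgroup G} {k a : G} (h1 : C k = B) (h2 : C (a * k * a⁻¹) = B) :
    a ∈ normalizer (B : Set G) := by
  rw [mem_normalizer_iff]
  intro b
  conv_rhs => rw [← h2, C_conj, mem_map_equiv, MulAut.conj_symm_apply, h1]
  simp [mul_assoc]

theorem fac_eq_of_pPow {p k : ℕ} [hp : Fact p.Prime] {U : Subgroup G} (h : Nat.card U = p ^ k) :
    fac p U = k := by
  rw [fac, h, Nat.factorization_pow, Finsupp.smul_apply, hp.out.factorization_self, smul_eq_mul, mul_one]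

/-- A `p'`-element commuting with `g` modulo `C x` lies in `C x`. -/
theorem mem_of_commute_mod {p N : ℕ} [hp : Fact p.Prime] {x g v : G} (hxp : x ^ p ∈ center G)
    (hab : ∀ a ∈ C x, ∀ b ∈ C x, a * b = b * a) (hz : g * x * g⁻¹ * x⁻¹ ∈ center G)
    (hfpf : ∀ k ∈ C x, g * k = k * g → k ∈ center G) (hv : v ∈ normalizer (C x : Set G))
    (hN : v ^ N ∈ C x) (hcop : N.Coprime p) (hvg : g⁻¹ * v * g * v⁻¹ ∈ C x) : v ∈ C x := by
  set x1 := v * x * v⁻¹ with hx1
  set z := g * x * g⁻¹ * x⁻¹ with hz'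
  set b := g⁻¹ * v * g * v⁻¹
  have hx1B : x1 ∈ C x := (mem_normalizer_iff.1 hv x).1 (self_mem_C x)
  have e1 : g * x1 * g⁻¹ = z * x1 := by
    calc g * x1 * g⁻¹ = g * (b * x1 * b⁻¹) * g⁻¹ := by
          rw [hab b hvg x1 hx1B, mul_inv_cancel_right]
      _ = v * (z * x) * v⁻¹ := by simp only [b, x1, z]; group
      _ = z * x1 := by
          rw [show v * (z * x) * v⁻¹ = v * z * x * v⁻¹ by group, mem_center_iff.1 hz v]
          simp only [x1]; group
  set k := x1 * x⁻¹ with hk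
  have hkB : k ∈ C x := mul_mem hx1B (inv_mem (self_mem_C x))
  have hgk : g * k * g⁻¹ = k := by
    calc g * k * g⁻¹ = (g * x1 * g⁻¹) * (g * x * g⁻¹)⁻¹ := by simp only [k]; group
      _ = z * x1 * (z * x)⁻¹ := by rw [e1, show g * x * g⁻¹ = z * x by simp only [z]; group]
      _ = z * k * z⁻¹ := by simp only [k]; group
      _ = k := by rw [← mem_center_iff.1 hz k, mul_inv_cancel_right]
  have hkc : k ∈ center G := hfpf k hkB (mul_inv_eq_iff_eq_mul.1 hgk)
  have hx1e : v * x * v⁻¹ = k * x := by simp only [k, x1]; group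
  have hkp : k ^ p = 1 := by
    have h1 : (k * x) ^ p = v * x ^ p * v⁻¹ := by rw [← hx1e, conj_pow]
    rw [(show Commute k x from (mem_center_iff.1 hkc x).symm).mul_pow, mem_center_iff.1 hxp v,
      mul_inv_cancel_right] at h1
    exact mul_eq_right.1 h1
  have e2 : ∀ i : ℕ, v ^ i * x * (v ^ i)⁻¹ = k ^ i * x := by
    intro i
    induction i with
    | zero => simp
    | succ i ih =>
      calc v ^ (i + 1) * x * (v ^ (i + 1))⁻¹ = v * (v ^ i * x * (v ^ i)⁻¹) * v⁻¹ := by
            rw [pow_succ']; group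
        _ = v * k ^ i * x * v⁻¹ := by rw [ih]; group
        _ = k ^ i * (v * x * v⁻¹) := by rw [mem_center_iff.1 (pow_mem hkc i) v]; group
        _ = k ^ (i + 1) * x := by rw [hx1e, pow_succ]; group
  have hkN : k ^ N = 1 := by
    have h1 := e2 N
    rw [mem_C.1 hN, mul_inv_cancel_right] at h1
    exact mul_eq_right.1 h1.symm
  have hk1 : k = 1 := orderOf_eq_one_iff.1 (Nat.eq_one_of_dvd_coprimes hcop
    (orderOf_dvd_of_pow_eq_one hkN) (orderOf_dvd_of_pow_eq_one hkp))
  rw [hk1, one_mul] at hx1e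
  exact mem_C.2 (mul_inv_eq_iff_eq_mul.1 hx1e)

/-- A normal `q`-complement of `A` from an abelian self-normalising centraliser. -/
theorem exists_complement {q : ℕ} [hq : Fact q.Prime] {A B : Subgroup G} (hBA : B ≤ A)
    (hab : ∀ a ∈ B, ∀ b ∈ B, a * b = b * a) (hfac : fac q A = fac q B)
    (hC : ∀ k ∈ B, IsPElem q k → k ∉ center G → C k = B)
    (hne : ∃ k ∈ B, IsPElem q k ∧ k ∉ center G) (hN : A ⊓ normalizer (B : Set G) ≤ B) :
    ∃ K ≤ A, A ≤ normalizer (K : Set G) ∧ (Nat.card K).Coprime q ∧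
      ∀ a ∈ A, ¬ q ∣ orderOf a → a ∈ K := by
  obtain ⟨U, hUB, hUp, hUc⟩ := exists_pSubgroup q B
  let T : Sylow q A := Sylow.ofCard (U.subgroupOf A) (by
    rw [Nat.card_congr (subgroupOfEquivOfLe (hUB.trans hBA)).toEquiv, hUc, ← hfac])
  obtain ⟨k, hkB, hkq, hkc⟩ := hne
  have hkU : k ∈ U := mem_part hab hUB hUc hkB hkq
  have hT : normalizer ((T : Subgroup A) : Set A) ≤ centralizer ((T : Subgroup A) : Set A) := by
    intro a ha
    have h1 : (⟨k, hBA hkB⟩ : A) ∈ (T : Subgroup A) := hkU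
    have h2 := (mem_normalizer_iff.1 ha _).1 h1
    have h3 : (a : G) * k * (a : G)⁻¹ ∈ U := h2
    have haB : (a : G) ∈ B := hN ⟨a.2, C_eq_normalize (hC k hkB hkq hkc)
      (hC _ (hUB h3) (isPElem_conj hkq a) fun h => hkc (conj_mem_center.1 h))⟩
    exact mem_centralizer_iff.2 fun u hu => Subtype.ext (hab _ (hUB (show (u : G) ∈ U from hu)) _ haB)
  obtain ⟨P, K, hKn, hKc⟩ :=
    CfsgLib.Transfer.hasNormalPComplement_of_normalizer_le_centralizer T hT
  haveI := hKn
  have hKq : ¬ q ∣ Nat.card K := by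
    rw [← hKc.index_eq_card]
    exact P.not_dvd_index
  refine ⟨K.map A.subtype, map_subtype_le K, ?_, ?_, fun a ha haq => ⟨⟨a, ha⟩, ?_, rfl⟩⟩
  · intro a ha
    rw [mem_normalizer_iff]
    intro u
    constructor
    · rintro ⟨u, hu, rfl⟩
      exact ⟨⟨a, ha⟩ * u * ⟨a, ha⟩⁻¹, hKn.conj_mem u hu _, rfl⟩
    · rintro ⟨w, hw, hwe⟩
      refine ⟨⟨a, ha⟩⁻¹ * w * ⟨a, ha⟩⁻¹⁻¹, hKn.conj_mem w hw _, ?_⟩
      have hwe' : (w : G) = a * u * a⁻¹ := hwe
      show a⁻¹ * (w : G) * a⁻¹⁻¹ = u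
      rw [hwe']; group
  · rw [card_map_of_injective A.subtype_injective]
    exact (hq.out.coprime_iff_not_dvd.2 hKq).symm
  · rw [SetLike.mem_coe, ← QuotientGroup.eq_one_iff (N := K), ← orderOf_eq_one_iff]
    have h1 : orderOf (QuotientGroup.mk (⟨a, ha⟩ : A) : A ⧸ K) ∣ Nat.card (P : Subgroup A) := by
      rw [← hKc.symm.index_eq_card, index_eq_card]
      exact orderOf_dvd_natCard _
    have h2 := orderOf_map_dvd (QuotientGroup.mk' K) (⟨a, ha⟩ : A)
    rw [orderOf_mk] at h2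
    obtain ⟨i, hi⟩ := IsPGroup.iff_card.1 P.2
    rw [hi] at h1
    exact Nat.eq_one_of_dvd_coprimes (Nat.Coprime.pow_left i (hq.out.coprime_iff_not_dvd.2 haq)) h1 h2

namespace Sizes

variable (hs : Sizes G m n) (hnp : OnlyN G m n)
include hs hnp

/-- A `p'`-overgroup of `C x` inside its normaliser which is invariant under `g` collapses. -/
theorem le_of_normalised {p : ℕ} [hp : Fact p.Prime] (hpn : ¬ p ∣ n) {x g : G} (hx : IsPElem p x)
    (hxc : x ∉ center G) (hxp : x ^ p ∈ center G) (hgp : g ^ p ∈ C x)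
    (hz : g * x * g⁻¹ * x⁻¹ ∈ center G) (hgN : g ∈ normalizer (C x : Set G))
    (hfpf : ∀ k ∈ C x, g * k = k * g → k ∈ center G) {N₁ : Subgroup G} (hBN : C x ≤ N₁)
    (hN₁ : N₁ ≤ normalizer (C x : Set G)) (hg₁ : g ∈ normalizer (N₁ : Set G))
    (hcop : ((C x).relIndex N₁).Coprime p) : N₁ ≤ C x := by
  set N := normalizer (C x : Set G)
  haveI hn : ((C x).subgroupOf N).Normal := normal_in_normalizer
  let π := QuotientGroup.mk' ((C x).subgroupOf N)
  set K := (N₁.subgroupOf N).map π with hK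
  have hKc : Nat.card K = (C x).relIndex N₁ := by
    rw [hK, ← relIndex_ker, QuotientGroup.ker_mk', relIndex_subgroupOf hN₁]
  by_contra hne
  have h1 : (C x).relIndex N₁ ≠ 1 := fun h => hne (relIndex_eq_one.1 h)
  obtain ⟨s, hs', hsd⟩ := Nat.exists_prime_and_dvd h1
  haveI := Fact.mk hs'
  have hsp : s ≠ p := fun e => hp.out.coprime_iff_not_dvd.1 hcop.symm (e ▸ hsd)
  set gb := π ⟨g, hgN⟩ with hgb
  have hgbp : gb ^ p = 1 := by
    rw [hgb, ← map_pow, QuotientGroup.mk'_apply, QuotientGroup.eq_one_iff, mem_subgroupOf]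
    simpa using hgp
  have hgbK : zpowers gb ≤ normalizer (K : Set _) := by
    refine zpowers_le.2 ?_
    refine le_normalizer_map π ⟨⟨g, hgN⟩, ?_, rfl⟩
    rw [SetLike.mem_coe, mem_normalizer_iff]
    intro a
    rw [mem_subgroupOf, mem_subgroupOf]
    exact mem_normalizer_iff.1 hg₁ a
  have hcop' : (Nat.card (zpowers gb)).Coprime (Nat.card K) := by
    rw [Nat.card_zpowers, hKc]
    exact Nat.Coprime.coprime_dvd_left (orderOf_dvd_of_pow_eq_one hgbp) hcop.symm
  obtain ⟨S, hS⟩ := CfsgLib.Solvable.exists_invariant_sylow (zpowers gb) K hgbK hcop'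
    (Or.inl (Group.isSolvable_of_comm fun a b => Subtype.ext (by
      obtain ⟨i, hi⟩ := a.2
      obtain ⟨j, hj⟩ := b.2
      rw [Subgroup.coe_mul, Subgroup.coe_mul, ← hi, ← hj]
      exact (Commute.zpow_zpow_self gb i j).eq))) s
  set Sg := (S : Subgroup K).map K.subtype
  have hSne : s ∣ Nat.card Sg := by
    rw [card_map_of_injective K.subtype_injective]
    exact S.dvd_card_of_dvd_card (hKc ▸ hsd)
  have hSp : IsPGroup s Sg := S.2.map _
  haveI : Nontrivial Sg := Finite.one_lt_card_iff_nontrivial.1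
    (lt_of_lt_of_le hs'.one_lt (Nat.le_of_dvd Nat.card_pos hSne))
  haveI : Nontrivial (center Sg) := hSp.center_nontrivial
  obtain ⟨j, hj0, hj⟩ := (hSp.to_subgroup (center Sg)).nontrivial_iff_card.1 inferInstance
  obtain ⟨⟨y₀, hy₀c⟩, hy₀⟩ := exists_prime_orderOf_dvd_card' (G := center Sg) s (hj ▸ dvd_pow_self s hj0.ne')
  rw [← Subgroup.orderOf_coe, ← Subgroup.orderOf_coe] at hy₀
  set y := ((y₀ : Sg) : N ⧸ (C x).subgroupOf N)
  have hgbS : gb ∈ normalizer (Sg : Set _) := hS (mem_zpowers gb)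
  obtain ⟨hab, -⟩ := hs.struct hnp hpn hx hxc
  obtain ⟨U, hUB, hUp, hUc⟩ := exists_pSubgroup p (C x)
  have hxU : x ∈ U := mem_part hab hUB hUc (self_mem_C x) hx
  have hF : ∀ e ∈ N, e ∉ C x → ∀ v ∈ U, e * v = v * e → v ∈ center G := by
    intro e _ he v hv hev
    by_contra hvc
    exact he ((hs.part_C_eq hnp hpn hx hxc hp.out hpn (hUB hv) (isPElem_of_mem hUp hv) hvc).symm ▸
      mem_C.2 hev)
  have hcop2 : s.Coprime (Nat.card U) := part_coprime hsp hUc
  have hNU : N ≤ normalizer (U : Set G) := part_normalized hab hUB hUc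
  have hHC : C x ≤ centralizer (U : Set G) := fun a ha =>
    mem_centralizer_iff.2 fun b hb => hab b (hUB hb) a ha
  have hXab : ∀ a ∈ U, ∀ b ∈ U, a * b = b * a := fun a ha b hb => hab a (hUB ha) b (hUB hb)
  by_cases hnorm : gb * y * gb⁻¹ ∈ zpowers y
  · have hgn : gb ∈ normalizer ((zpowers y : Subgroup _) : Set _) := by
      refine CfsgLib.Solvable.mem_normalizer_of_conj_mem fun u hu => ?_
      obtain ⟨i, rfl⟩ := mem_zpowers_iff.1 hu
      rw [← conj_zpow]
      exact zpow_mem hnorm i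
    by_cases hc : gb * y = y * gb
    · obtain ⟨v, hv⟩ := QuotientGroup.mk'_surjective ((C x).subgroupOf N) y
      have hvs : (v : G) ^ s ∈ C x := by
        have : π (v ^ s) = 1 := by rw [map_pow, hv, ← hy₀, pow_orderOf_eq_one]
        simpa using mem_subgroupOf.1 ((QuotientGroup.eq_one_iff _).1 this)
      have hvg : g⁻¹ * (v : G) * g * (v : G)⁻¹ ∈ C x := by
        have : π (⟨g, hgN⟩⁻¹ * v * ⟨g, hgN⟩ * v⁻¹) = 1 := by
          simp only [map_mul, map_inv, π, hv, ← QuotientGroup.mk'_apply]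
          rw [show QuotientGroup.mk' ((C x).subgroupOf N) ⟨g, hgN⟩ = gb from rfl,
            mul_assoc gb⁻¹ y gb, ← hc, inv_mul_cancel_left, mul_inv_cancel]
        simpa using mem_subgroupOf.1 ((QuotientGroup.eq_one_iff _).1 this)
      have hvB := mem_of_commute_mod hxp hab hz hfpf v.2 hvs
        ((Nat.coprime_primes hs' hp.out).2 hsp) hvg
      have : y = 1 := by rw [← hv, QuotientGroup.mk'_apply, QuotientGroup.eq_one_iff]; exact hvB
      rw [this, orderOf_one] at hy₀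
      exact hs'.one_lt.ne hy₀
    · obtain ⟨hxY, hord⟩ := twist hs' hy₀ hgbp hgn hc
      exact hxc (central_of_fixed hNU hHC hXab hF hs' hcop2 hy₀ hgn hxY hord x hxU)
  · have hy'S : gb * y * gb⁻¹ ∈ Sg := (mem_normalizer_iff.1 hgbS y).1 (y₀ : Sg).2
    have hcom : gb * y * gb⁻¹ * y = y * (gb * y * gb⁻¹) :=
      congrArg Subtype.val (mem_center_iff.1 hy₀c ⟨_, hy'S⟩)
    refine hxc (central_of_fixed hNU hHC hXab hF hs' hcop2 hy₀ (t := s)
      (x := gb * y * gb⁻¹) ?_ hnorm (fun u hu => ?_) x hxU)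
    · refine CfsgLib.Solvable.mem_normalizer_of_conj_mem fun u hu => ?_
      obtain ⟨i, rfl⟩ := mem_zpowers_iff.1 hu
      rwa [((show Commute (gb * y * gb⁻¹) y from hcom).zpow_right i).eq, mul_inv_cancel_right]
    · obtain ⟨i, rfl⟩ := mem_zpowers_iff.1 hu
      have hys : y ^ s = 1 := by rw [← hy₀, pow_orderOf_eq_one]
      rw [((show Commute (gb * y * gb⁻¹) y from hcom).symm.zpow_left i).mul_pow, conj_pow, hys,
        mul_one, mul_inv_cancel, mul_one, ← zpow_natCast, ← zpow_mul, mul_comm, zpow_mul,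
        zpow_natCast, hys, one_zpow]

/-- Two primes of `m` force `p ∣ q - 1`. -/
theorem dvd_sub_one {p q : ℕ} [hp : Fact p.Prime] [hq : Fact q.Prime] (hpq : p ≠ q) (hpm : p ∣ m)
    (hqm : q ∣ m) : p ∣ q - 1 := by
  have hpn := hs.not_dvd_of_dvd_m hp.out hpm
  have hqn := hs.not_dvd_of_dvd_m hq.out hqm
  obtain ⟨x, g, hxe, hxc, hxp, hgx, hgp, hz, hgN, hfpf, hν, P, hxP, hPN, -⟩ := hs.exists_frame hnp hpm
  obtain ⟨hab, r, e, hr, hrn, her, heB, hem, hle⟩ := hs.struct hnp hpn hxe hxc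
  haveI := Fact.mk hr
  set N := normalizer (C x : Set G)
  haveI hn : ((C x).subgroupOf N).Normal := normal_in_normalizer
  let π := QuotientGroup.mk' ((C x).subgroupOf N)
  obtain ⟨y₀, hy₀, hy₀c⟩ : ∃ y, IsPElem q y ∧ y ∉ center G := by
    obtain ⟨Q⟩ : Nonempty (Sylow q G) := inferInstance
    obtain ⟨y, hy, hyc⟩ := hs.exists_noncentral_pElem (hqm.trans (dvd_mul_right m n)) Q
    exact ⟨y, isPElem_of_mem Q.2 hy, hyc⟩
  obtain ⟨k₀, hk₀, hk₀q, hk₀c⟩ := exists_pElem_of_lt (hs.fac_C_gt hqn hy₀ hy₀c hxc)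
  obtain ⟨Xq, hXB, hXp, hXc⟩ := exists_pSubgroup q (C x)
  have hk₀X : k₀ ∈ Xq := mem_part hab hXB hXc hk₀ hk₀q
  have hNX : N ≤ normalizer (Xq : Set G) := part_normalized hab hXB hXc
  have hF : ∀ e ∈ N, e ∉ C x → ∀ v ∈ Xq, e * v = v * e → v ∈ center G := by
    intro e _ he v hv hev
    by_contra hvc
    exact he ((hs.part_C_eq hnp hpn hxe hxc hq.out hqn (hXB hv) (isPElem_of_mem hXp hv) hvc).symm ▸
      mem_C.2 hev)
  set gb := π ⟨g, hgN⟩ with hgb
  have hgbp : gb ^ p = 1 := by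
    rw [hgb, ← map_pow, QuotientGroup.mk'_apply, QuotientGroup.eq_one_iff, mem_subgroupOf]
    simpa using hgp
  have hgb1 : gb ≠ 1 := fun h => hgx (by
    rw [hgb, QuotientGroup.mk'_apply, QuotientGroup.eq_one_iff] at h
    exact h)
  have hgbo : orderOf gb = p := orderOf_eq_prime hgbp hgb1
  have hcardW : Nat.card (N ⧸ (C x).subgroupOf N) = (C x).relIndex N := rfl
  have hBN : C x ≤ N := le_normalizer
  have hWp : (Nat.card (N ⧸ (C x).subgroupOf N)).factorization p = 1 := by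
    have h1 := relIndex_mul_relIndex ⊥ (C x) N bot_le hBN
    rw [relIndex_bot_left, relIndex_bot_left] at h1
    have h2 : fac p N = (Nat.card G).factorization p := by
      have h3 := fac_le_of_le p hPN
      rw [fac_eq_of_pPow P.card_eq_multiplicity] at h3
      have := fac_add_index p N
      omega
    have h4 := hs.fac_C_mn (hs.idx_mn hnp hp.out hpn hxe hxc) p
    rw [hν, Nat.factorization_eq_zero_of_not_dvd hpn] at h4
    have h0 : (C x).relIndex N ≠ 0 := index_ne_zero_of_finite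
    rw [fac, ← h1, Nat.factorization_mul Nat.card_pos.ne' h0, Finsupp.add_apply] at h2
    rw [hcardW]
    simp only [fac] at h4
    omega
  -- Burnside in the quotient
  let Pb : Sylow p (N ⧸ (C x).subgroupOf N) := Sylow.ofCard (zpowers gb) (by
    rw [Nat.card_zpowers, hgbo, hWp, pow_one])
  have hburn : Cfsg.HasNormalPComplement p (N ⧸ (C x).subgroupOf N) := by
    refine CfsgLib.Transfer.hasNormalPComplement_of_abelian_sylow Pb ⟨⟨fun a b => Subtype.ext ?_⟩⟩ ?_
    · obtain ⟨i, hi⟩ := (show (a : N ⧸ (C x).subgroupOf N) ∈ zpowers gb from a.2)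
      obtain ⟨j, hj⟩ := (show (b : N ⧸ (C x).subgroupOf N) ∈ zpowers gb from b.2)
      rw [Subgroup.coe_mul, Subgroup.coe_mul, ← hi, ← hj]
      exact (Commute.zpow_zpow_self gb i j).eq
    intro u hu hup
    change u ∈ normalizer ((zpowers gb : Subgroup _) : Set _) at hu
    change u ∈ centralizer ((zpowers gb : Subgroup _) : Set _)
    by_contra huc
    obtain ⟨t, i, ht, hti, htc, htd⟩ := exists_primary_not_mem huc
    haveI := Fact.mk ht
    obtain ⟨l, hl⟩ := hti
    have htp : t ≠ p := fun e => hp.out.coprime_iff_not_dvd.1 hup.symm (e ▸ htd)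
    classical
    have hex : ∃ a, (u ^ i) ^ t ^ a ∈ centralizer ((zpowers gb : Subgroup _) : Set _) :=
      ⟨l, by rw [← hl, pow_orderOf_eq_one]; exact one_mem _⟩
    have ha := Nat.find_spec hex
    obtain ⟨a, ha0⟩ : ∃ a, Nat.find hex = a + 1 := by
      refine ⟨Nat.find hex - 1, (Nat.succ_pred_eq_of_pos (Nat.pos_of_ne_zero fun h => htc ?_)).symm⟩
      rw [h, pow_zero, pow_one] at ha
      exact ha
    rw [ha0, pow_succ, pow_mul] at ha
    set u0 := (u ^ i) ^ t ^ a with hu0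
    have hu0c : u0 ∉ centralizer ((zpowers gb : Subgroup _) : Set _) :=
      Nat.find_min hex (by omega)
    have hu0n : u0 ∈ normalizer ((zpowers gb : Subgroup _) : Set _) := pow_mem (pow_mem hu i) _
    have hu0o : orderOf (u0 ^ t) ∣ t ^ l := by
      rw [hu0, ← hl]
      exact (orderOf_pow_dvd _).trans (orderOf_pow_dvd _)
    have hcomm : gb * u0 ^ t = u0 ^ t * gb := mem_centralizer_iff.1 ha gb (mem_zpowers gb)
    obtain ⟨v, hv⟩ := QuotientGroup.mk'_surjective ((C x).subgroupOf N) (u0 ^ t)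
    have hvN : (v : G) ^ (t ^ l) ∈ C x := by
      have : π (v ^ (t ^ l)) = 1 := by rw [map_pow, hv]; exact orderOf_dvd_iff_pow_eq_one.1 hu0o
      simpa using mem_subgroupOf.1 ((QuotientGroup.eq_one_iff _).1 this)
    have hvg : g⁻¹ * (v : G) * g * (v : G)⁻¹ ∈ C x := by
      have : π (⟨g, hgN⟩⁻¹ * v * ⟨g, hgN⟩ * v⁻¹) = 1 := by
        simp only [map_mul, map_inv, π, hv, ← QuotientGroup.mk'_apply]
        rw [show QuotientGroup.mk' ((C x).subgroupOf N) ⟨g, hgN⟩ = gb from rfl,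
          mul_assoc gb⁻¹ (u0 ^ t) gb, ← hcomm, inv_mul_cancel_left, mul_inv_cancel]
      simpa using mem_subgroupOf.1 ((QuotientGroup.eq_one_iff _).1 this)
    have hvB := mem_of_commute_mod hxp hab hz hfpf v.2 hvN
      (Nat.Coprime.pow_left l ((Nat.coprime_primes ht hp.out).2 htp)) hvg
    have hu0t : u0 ^ t = 1 := by
      rw [← hv, QuotientGroup.mk'_apply, QuotientGroup.eq_one_iff]; exact hvB
    have hnc : u0 * gb ≠ gb * u0 := fun h => hu0c (mem_centralizer_iff.2 fun w hw => by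
      obtain ⟨j, rfl⟩ := mem_zpowers_iff.1 hw
      exact ((show Commute u0 gb from h).zpow_right j).symm.eq)
    obtain ⟨hxY, hord⟩ := twist hp.out hgbo hu0t hu0n hnc
    exact hk₀c (central_of_fixed hNX (fun a ha => mem_centralizer_iff.2 fun b hb => hab b (hXB hb) a ha)
      (fun a ha b hb => hab a (hXB ha) b (hXB hb)) hF hp.out (part_coprime hpq hXc) hgbo hu0n hxY hord
      k₀ hk₀X)
  obtain ⟨P₁, Kb, hKbn, hKbc⟩ := hburn
  set N₁ := (Kb.comap π).map N.subtype with hN₁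
  have hN₁N : N₁ ≤ N := map_subtype_le _
  have hBN₁ : C x ≤ N₁ := fun b hb => ⟨⟨b, hBN hb⟩, by
    rw [SetLike.mem_coe, mem_comap, show π ⟨b, hBN hb⟩ = 1 from (QuotientGroup.eq_one_iff _).2 hb]
    exact one_mem _, rfl⟩
  have hsub : N₁.subgroupOf N = Kb.comap π := by
    rw [hN₁, subgroupOf, comap_map_eq_self_of_injective N.subtype_injective]
  have hKbeq : Nat.card Kb = (C x).relIndex N₁ := by
    have e := relIndex_ker (K := N₁.subgroupOf N) π
    rw [QuotientGroup.ker_mk', relIndex_subgroupOf hN₁N] at e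
    rw [e, hsub, map_comap_eq_self_of_surjective (QuotientGroup.mk'_surjective _)]
  have hKb1 : Nat.card Kb = 1 := by
    have hcopK : (Nat.card Kb).Coprime p := by
      refine (hp.out.coprime_iff_not_dvd.2 ?_).symm
      rw [← hKbc.index_eq_card]
      exact P₁.not_dvd_index
    have hg₁ : g ∈ normalizer (N₁ : Set G) := by
      rw [hN₁]
      refine le_normalizer_map N.subtype ⟨⟨g, hgN⟩, ?_, rfl⟩
      rw [normalizer_eq_top_iff.2 (hKbn.comap π)]
      exact mem_top _
    have := hs.le_of_normalised hnp hpn hxe hxc hxp hgp hz hgN hfpf hBN₁ hN₁N hg₁ (hKbeq ▸ hcopK)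
    rw [hKbeq, relIndex_eq_one]
    exact this
  have hW : (C x).relIndex N = p := by
    rw [← hcardW, ← Subgroup.IsComplement'.card_mul hKbc, hKb1, one_mul, P₁.card_eq_multiplicity,
      hWp, pow_one]
  set A := C e
  have hfacA : ∀ t : ℕ, ¬ t ∣ n → fac t A = fac t (C x) := fun t ht =>
    hs.fac_C_eq ht (hs.not_center_m hem) hxc
  have hAN : A ⊓ N ≤ C x := by
    have h1 := relIndex_mul_relIndex (C x) (A ⊓ N) N (le_inf hle hBN) inf_le_right
    rw [hW] at h1
    rcases (Nat.dvd_prime hp.out).1 (Dvd.intro _ h1) with h | h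
    · exact relIndex_eq_one.1 h
    · exfalso
      have h2 := relIndex_mul_relIndex ⊥ (C x) (A ⊓ N) bot_le (le_inf hle hBN)
      rw [relIndex_bot_left, relIndex_bot_left, h] at h2
      have h3 := fac_le_of_le p (inf_le_left : A ⊓ N ≤ A)
      rw [hfacA p hpn, fac, fac, ← h2, Nat.factorization_mul Nat.card_pos.ne' hp.out.ne_zero,
        Finsupp.add_apply, hp.out.factorization_self] at h3
      omega
  obtain ⟨K, hKA, hAK, hKcop, hKmem⟩ := exists_complement (q := q) hle hab (hfacA q hqn)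
    (fun k hk hkq hkc => (hs.part_C_eq hnp hpn hxe hxc hq.out hqn hk hkq hkc).symm)
    ⟨k₀, hk₀, hk₀q, hk₀c⟩ hAN
  -- an element of order `q` modulo the centre
  obtain ⟨k₁, hk₁, hk₁c, hk₁q⟩ : ∃ k ∈ Xq, k ∉ center G ∧ k ^ q ∈ center G := by
    classical
    obtain ⟨l, hl⟩ := hk₀q
    have hex : ∃ a, k₀ ^ q ^ a ∈ center G := ⟨l, by rw [← hl, pow_orderOf_eq_one]; exact one_mem _⟩
    have hspec := Nat.find_spec hex
    obtain ⟨a, ha⟩ : ∃ a, Nat.find hex = a + 1 := by
      refine ⟨Nat.find hex - 1, (Nat.succ_pred_eq_of_pos (Nat.pos_of_ne_zero fun h => hk₀c ?_)).symm⟩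
      rw [h, pow_zero, pow_one] at hspec
      exact hspec
    rw [ha, pow_succ, pow_mul] at hspec
    exact ⟨k₀ ^ q ^ a, pow_mem hk₀X _, Nat.find_min hex (by omega), hspec⟩
  set k₂ := g * k₁ * g⁻¹ with hk₂
  have hk₂X : k₂ ∈ Xq := (mem_normalizer_iff.1 (hNX hgN) k₁).1 hk₁
  have hk₂q : k₂ ^ q ∈ center G := by rw [hk₂, conj_pow]; exact conj_mem_center.2 hk₁q
  let ρ := QuotientGroup.mk' (center G)
  have hmem : ρ k₂ ∈ zpowers (ρ k₁) := by
    by_contra hnot
    have hq1 : ∀ k, k ^ q ∈ center G → ρ k ^ q = 1 := fun k hk => by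
      rw [← map_pow, QuotientGroup.mk'_apply, QuotientGroup.eq_one_iff]; exact hk
    have hfix : ∀ k ∈ Xq, k ∉ center G → k ^ q ∈ center G →
        K.map ρ ⊓ centralizer ({ρ k} : Set (G ⧸ center G)) ≤ (C x).map ρ := by
      rintro k hk hkc hkq _ ⟨⟨u, hu, rfl⟩, hcu⟩
      have hB := hs.part_C_eq hnp hpn hxe hxc hq.out hqn (hXB hk) (isPElem_of_mem hXp hk) hkc
      set z := u * k * u⁻¹ * k⁻¹ with hzdef
      have hzc : z ∈ center G := by
        rw [← QuotientGroup.eq_one_iff (N := center G), ← QuotientGroup.mk'_apply]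
        simp only [z, map_mul, map_inv]
        rw [mem_centralizer_singleton_iff.1 hcu, mul_inv_cancel_right, mul_inv_cancel]
      have e1 : ∀ i : ℕ, u ^ i * k * (u ^ i)⁻¹ = z ^ i * k := by
        intro i
        induction i with
        | zero => simp
        | succ i ih =>
          calc u ^ (i + 1) * k * (u ^ (i + 1))⁻¹ = u * (u ^ i * k * (u ^ i)⁻¹) * u⁻¹ := by
                rw [pow_succ']; group
            _ = u * z ^ i * k * u⁻¹ := by rw [ih]; group
            _ = z ^ i * (u * k * u⁻¹) := by rw [mem_center_iff.1 (pow_mem hzc i) u]; group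
            _ = z ^ (i + 1) * k := by rw [pow_succ]; simp only [z]; group
      have hzq : z ^ q = 1 := by
        have h1 : (z * k) ^ q = u * k ^ q * u⁻¹ := by
          have := e1 1
          simp only [pow_one] at this
          rw [← this, conj_pow]
        rw [(show Commute z k from (mem_center_iff.1 hzc k).symm).mul_pow, mem_center_iff.1 hkq u,
          mul_inv_cancel_right] at h1
        exact mul_eq_right.1 h1
      have hzN : z ^ Nat.card K = 1 := by
        have h1 := e1 (Nat.card K)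
        rw [show u ^ Nat.card K = 1 from congrArg Subtype.val (pow_card_eq_one' (x := (⟨u, hu⟩ : K))),
          one_mul, inv_one, mul_one] at h1
        exact mul_eq_right.1 h1.symm
      have hz1 : z = 1 := orderOf_eq_one_iff.1 (Nat.eq_one_of_dvd_coprimes hKcop
        (orderOf_dvd_of_pow_eq_one hzN) (orderOf_dvd_of_pow_eq_one hzq))
      refine ⟨u, hB.symm ▸ mem_C.2 ?_, rfl⟩
      exact mul_inv_eq_iff_eq_mul.1 (mul_inv_eq_one.1 hz1)
    have hnormK : ∀ k ∈ Xq, ρ k ∈ normalizer (K.map ρ : Set (G ⧸ center G)) := fun k hk =>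
      le_normalizer_map ρ ⟨k, hAK (hle (hXB hk)), rfl⟩
    have hle' : K.map ρ ≤ (C x).map ρ := by
      refine CfsgLib.LocalEven.le_of_line_centralizers (p := q) (hq1 k₁ hk₁q) (hq1 k₂ hk₂q)
        ((show Commute k₁ k₂ from hab k₁ (hXB hk₁) k₂ (hXB hk₂X)).map ρ)
        (hKcop.coprime_dvd_left (card_map_dvd _ _)) (hnormK k₁ hk₁) (hnormK k₂ hk₂X)
        (hfix k₁ hk₁ hk₁c hk₁q) fun i => ?_
      rw [← map_pow, ← map_mul]
      refine hfix _ (mul_mem hk₂X (pow_mem hk₁ i)) (fun hc => hnot ?_) ?_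
      · have h1 : ρ (k₂ * k₁ ^ i) = 1 := (QuotientGroup.eq_one_iff _).2 hc
        rw [map_mul, map_pow, mul_eq_one_iff_eq_inv] at h1
        rw [h1]
        exact inv_mem (pow_mem (mem_zpowers _) i)
      · rw [((show Commute k₂ k₁ from hab k₂ (hXB hk₂X) k₁ (hXB hk₁)).pow_right i).mul_pow]
        exact mul_mem hk₂q (by rw [← pow_mul, mul_comm, pow_mul]; exact pow_mem hk₁q i)
    have hKB : K ≤ C x := fun u hu => by
      obtain ⟨b, hb, hbu⟩ := hle' ⟨u, hu, rfl⟩
      have h1 : b⁻¹ * u ∈ center G := QuotientGroup.eq.1 hbu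
      have := mul_mem hb (center_le_C x h1)
      rwa [mul_inv_cancel_left] at this
    have hrq : r ≠ q := fun e => hqn (e ▸ hrn)
    have h1 : fac r A ≤ fac r (C x) := fac_le_of_pElem fun a ha har =>
      hKB (hKmem a ha (not_dvd_orderOf hrq har))
    have h2 : fac r A + m.factorization r = (Nat.card G).factorization r := hs.fac_C_m hem r
    have h3 := hs.fac_C_mn (hs.idx_mn hnp hp.out hpn hxe hxc) r
    have h4 := hr.factorization_pos_of_dvd (by have := hs.one_lt_n; omega) hrn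
    omega
  obtain ⟨j, hj⟩ := mem_zpowers_iff.1 hmem
  -- `j` has order `p` modulo `q`
  have hk1o : orderOf (ρ k₁) = q := orderOf_eq_prime
    (by rw [← map_pow, QuotientGroup.mk'_apply, QuotientGroup.eq_one_iff]; exact hk₁q)
    fun h => hk₁c ((QuotientGroup.eq_one_iff k₁).1 h)
  have hiter : ∀ i : ℕ, ρ (g ^ i * k₁ * (g ^ i)⁻¹) = ρ k₁ ^ (j ^ i) := by
    intro i
    induction i with
    | zero => simp
    | succ i ih =>
      calc ρ (g ^ (i + 1) * k₁ * (g ^ (i + 1))⁻¹) = ρ g * ρ (g ^ i * k₁ * (g ^ i)⁻¹) * (ρ g)⁻¹ := by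
            rw [← map_inv, ← map_mul, ← map_mul]; congr 1; rw [pow_succ']; group
        _ = (ρ g * ρ k₁ * (ρ g)⁻¹) ^ (j ^ i) := by rw [ih, conj_zpow]
        _ = ρ k₁ ^ (j ^ (i + 1)) := by
            rw [← map_inv, ← map_mul, ← map_mul, ← hk₂, ← hj, ← zpow_mul, pow_succ']
  have hjp : ((j : ZMod q)) ^ p = 1 := by
    have h1 := hiter p
    rw [hab _ hgp k₁ (hXB hk₁), mul_inv_cancel_right] at h1
    have h2 : ρ k₁ ^ (j ^ p - 1) = 1 := by rw [zpow_sub_one, ← h1, mul_inv_cancel]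
    rw [← orderOf_dvd_iff_zpow_eq_one, hk1o, ← ZMod.intCast_zmod_eq_zero_iff_dvd] at h2
    push_cast at h2
    exact sub_eq_zero.1 h2
  have hj1 : ((j : ZMod q)) ≠ 1 := by
    intro h
    have h2 : ρ k₁ ^ (j - 1) = 1 := by
      rw [← orderOf_dvd_iff_zpow_eq_one, hk1o, ← ZMod.intCast_zmod_eq_zero_iff_dvd]
      push_cast
      rw [h, sub_self]
    have h3 : ρ k₂ = ρ k₁ := by
      rw [← hj, ← mul_inv_eq_one, ← zpow_sub_one, h2]
    set z := k₂ * k₁⁻¹ with hzdef
    have hzc : z ∈ center G := by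
      rw [← QuotientGroup.eq_one_iff (N := center G), ← QuotientGroup.mk'_apply]
      simp only [z, map_mul, map_inv]
      rw [show QuotientGroup.mk' (center G) k₂ = QuotientGroup.mk' (center G) k₁ from h3, mul_inv_cancel]
    have hk₂e : g * k₁ * g⁻¹ = z * k₁ := by simp only [z, k₂]; group
    have e1 : ∀ i : ℕ, g ^ i * k₁ * (g ^ i)⁻¹ = z ^ i * k₁ := by
      intro i
      induction i with
      | zero => simp
      | succ i ih =>
        calc g ^ (i + 1) * k₁ * (g ^ (i + 1))⁻¹ = g * (g ^ i * k₁ * (g ^ i)⁻¹) * g⁻¹ := by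
              rw [pow_succ']; group
          _ = g * z ^ i * k₁ * g⁻¹ := by rw [ih]; group
          _ = z ^ i * (g * k₁ * g⁻¹) := by rw [mem_center_iff.1 (pow_mem hzc i) g]; group
          _ = z ^ (i + 1) * k₁ := by rw [hk₂e, pow_succ]; group
    have hzq : z ^ q = 1 := by
      have h4 : (z * k₁) ^ q = g * k₁ ^ q * g⁻¹ := by rw [← hk₂e, conj_pow]
      rw [(show Commute z k₁ from (mem_center_iff.1 hzc k₁).symm).mul_pow, mem_center_iff.1 hk₁q g,
        mul_inv_cancel_right] at h4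
      exact mul_eq_right.1 h4
    have hzp : z ^ p = 1 := by
      have h4 := e1 p
      rw [hab _ hgp k₁ (hXB hk₁), mul_inv_cancel_right] at h4
      exact mul_eq_right.1 h4.symm
    have hz1 : z = 1 := orderOf_eq_one_iff.1 (Nat.eq_one_of_dvd_coprimes
      ((Nat.coprime_primes hp.out hq.out).2 hpq) (orderOf_dvd_of_pow_eq_one hzp)
      (orderOf_dvd_of_pow_eq_one hzq))
    rw [hz1, one_mul] at hk₂e
    exact hk₁c (hfpf k₁ (hXB hk₁) (mul_inv_eq_iff_eq_mul.1 hk₂e))
  have hord : orderOf (j : ZMod q) = p := orderOf_eq_prime hjp hj1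
  rw [← hord]
  exact ZMod.orderOf_dvd_card_sub_one (fun h => by
    rw [h, zero_pow hp.out.ne_zero] at hjp
    exact zero_ne_one hjp)

end Sizes

end CfsgLib.FGS.CoprimeMultiple
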