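import Mathlib
import Cfsg.Agent.Lib.FGS.CoprimeMultiple.NPrimary

/-!
# One prime in `m`; existence of an abelian centraliser of index `m`
-/

set_option autoImplicit false
set_option linter.unusedSectionVars false

namespace CfsgLib.FGS.CoprimeMultiple

open Subgroup

variable {G : Type*} [Group G] [Finite G] {m n : ℕ}

namespace Sizes

variable (hs : Sizes G m n)
include hs

theorem false_of_single (hnp : OnlyN G m n) {p : ℕ} [hp : Fact p.Prime] (hpm : p ∣ m)
    (hone : ∀ t : ℕ, t.Prime → t ∣ m → t = p) : False := by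
  have hpn := hs.not_dvd_of_dvd_m hp.out hpm
  obtain ⟨x, g, hxe, hxc, hxp, hgx, hgp, hz, hgN, hfpf, hν, P, hxP, hPN, hxz⟩ := hs.exists_frame hnp hpm
  obtain ⟨hab, r, e, hr, hrn, her, heB, hem, hle⟩ := hs.struct hnp hpn hxe hxc
  haveI := Fact.mk hr
  have hrp : r ≠ p := fun e => hpn (e ▸ hrn)
  have hmp : m = p := by
    refine Nat.eq_of_factorization_eq hs.ne_zero_m hp.out.ne_zero fun t => ?_
    rw [hp.out.factorization, Finsupp.single_apply]
    split_ifs with h
    · rw [← h, hν]
    · by_cases ht : t.Prime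
      · exact Nat.factorization_eq_zero_of_not_dvd fun hd => h (hone t ht hd).symm
      · exact Nat.factorization_eq_zero_of_not_prime _ ht
  set A := C e with hA
  have hAidx : A.index = p := hem.trans hmp
  -- all conjugates of `e` lie in `C x`
  have hconjB : ∀ f, IsConj e f → f ∈ C x := by
    intro f hf
    obtain ⟨u, hu⟩ := isConj_iff.1 hf
    obtain ⟨s, hs', a, ha, rfl⟩ := CfsgLib.Solvable.mul_of_coprime_index
      (H := (P : Subgroup G)) (K := A)
      (by rw [hAidx]; exact (hp.out.coprime_iff_not_dvd.2 P.not_dvd_index).symm) u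
    rw [← hu, show s * a * e * (s * a)⁻¹ = s * (a * e * a⁻¹) * s⁻¹ by group, mem_C.1 ha,
      mul_inv_cancel_right]
    exact (mem_normalizer_iff.1 (hPN hs') e).1 heB
  set L := centralizer {f : G | IsConj e f} with hL
  have hLn : L.Normal := ⟨fun a ha u => mem_centralizer_iff.2 fun f hf => by
    have h1 := mem_centralizer_iff.1 ha (u⁻¹ * f * u)
      ((show IsConj e f from hf).trans (isConj_iff.2 ⟨u⁻¹, by rw [inv_inv]⟩))
    calc f * (u * a * u⁻¹) = u * (u⁻¹ * f * u * a) * u⁻¹ := by group
      _ = u * a * u⁻¹ * f := by rw [h1]; group⟩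
  have hBL : C x ≤ L := fun b hb => mem_centralizer_iff.2 fun f hf => hab f (hconjB f hf) b hb
  have hLA : L ≤ A := fun a ha => mem_C.2 (mem_centralizer_iff.1 ha e (IsConj.refl e)).symm
  have hfacpA : fac p A = fac p (C x) := hs.fac_C_eq hpn (hs.not_center_m hem) hxc
  obtain ⟨U, hUB, hUp, hUc⟩ := exists_pSubgroup p (C x)
  have hxU : x ∈ U := mem_part hab hUB hUc (self_mem_C x) hxe
  -- all `p'`-elements centralise the conjugates of `e`
  have hpL : ∀ v : G, ¬ p ∣ orderOf v → v ∈ L := by
    intro v hv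
    by_cases hvc : v ∈ center G
    · exact mem_centralizer_iff.2 fun f _ => mem_center_iff.1 hvc f
    obtain ⟨V, hV, hVp, hVc⟩ := exists_pSubgroup p (C v)
    have hfv : fac p (C v) = fac p (C x) := hs.fac_C_eq hpn hvc hxc
    by_cases hVL : V ≤ L
    · let S₁ : Sylow p L := Sylow.ofCard (V.subgroupOf L) (by
        rw [Nat.card_congr (subgroupOfEquivOfLe hVL).toEquiv, hVc, hfv]
        congr 1
        exact le_antisymm (fac_le_of_le p hBL) (le_trans (fac_le_of_le p hLA) hfacpA.le))
      let S₂ : Sylow p L := Sylow.ofCard (U.subgroupOf L) (by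
        rw [Nat.card_congr (subgroupOfEquivOfLe (hUB.trans hBL)).toEquiv, hUc]
        congr 1
        exact le_antisymm (fac_le_of_le p hBL) (le_trans (fac_le_of_le p hLA) hfacpA.le))
      obtain ⟨c, hc⟩ := MulAction.exists_smul_eq L S₁ S₂
      have h1 : (⟨x, hBL (self_mem_C x)⟩ : L) ∈ (S₂ : Subgroup L) := hxU
      rw [← hc, Sylow.coe_subgroup_smul, CfsgLib.FGS.mem_conj_smul] at h1
      have h2 : (c : G)⁻¹ * x * c ∈ V := h1
      have h3 : (c : G) * v * (c : G)⁻¹ ∈ C x := by
        refine mem_C.2 ?_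
        have h4 := mem_C.1 (hV h2)
        calc (c : G) * v * (c : G)⁻¹ * x = c * (v * ((c : G)⁻¹ * x * c)) * (c : G)⁻¹ := by group
          _ = x * (c * v * (c : G)⁻¹) := by rw [← h4]; group
      have h5 := mul_mem (mul_mem (inv_mem c.2) (hBL h3)) c.2
      simpa [mul_assoc] using h5
    · obtain ⟨a, haV, haL⟩ := SetLike.not_le_iff_exists.1 hVL
      obtain ⟨f, hf, haf⟩ : ∃ f, IsConj e f ∧ a ∉ C f := by
        by_contra hc
        push Not at hc
        exact haL (mem_centralizer_iff.2 fun f hf => (mem_C.1 (hc f hf)).symm)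
      obtain ⟨k, hk⟩ := isPElem_of_mem hVp haV
      -- the orbit of `f` under `a`
      let φ : zpowers a ⧸ (C f).subgroupOf (zpowers a) → {f' : G // IsConj e f'} :=
        Quotient.lift (fun b : zpowers a => (⟨(b : G) * f * (b : G)⁻¹,
            (show IsConj e f from hf).trans (isConj_iff.2 ⟨b, rfl⟩)⟩ : {f' : G // IsConj e f'}))
          fun b c hbc => Subtype.ext (by
            have h6 : (b : G)⁻¹ * c ∈ C f := mem_subgroupOf.1 (QuotientGroup.leftRel_apply.1 hbc)
            calc (b : G) * f * (b : G)⁻¹ = b * (f * ((b : G)⁻¹ * c)) * ((b : G)⁻¹ * c)⁻¹ * (b : G)⁻¹ := by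
                  group
              _ = c * f * (c : G)⁻¹ := by rw [← mem_C.1 h6]; group)
      have hφ : Function.Injective φ := by
        intro b c
        induction b using Quotient.inductionOn with | _ b => ?_
        induction c using Quotient.inductionOn with | _ c => ?_
        intro h
        have h6 : (b : G) * f * (b : G)⁻¹ = c * f * (c : G)⁻¹ := congrArg Subtype.val h
        refine QuotientGroup.eq.2 (mem_subgroupOf.2 (mem_C.2 ?_))
        calc (b : G)⁻¹ * c * f = (b : G)⁻¹ * ((c : G) * f * (c : G)⁻¹) * c := by group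
          _ = f * ((b : G)⁻¹ * c) := by rw [← h6]; group
      have hΩ : Nat.card {f' : G // IsConj e f'} ≤ p := by
        rw [← hAidx, index_eq_card]
        refine Nat.card_le_card_of_surjective
          (Quotient.lift (fun u : G => (⟨u * e * u⁻¹, isConj_iff.2 ⟨u, rfl⟩⟩ : {f' : G // IsConj e f'}))
            fun b c hbc => Subtype.ext ?_) ?_
        · have h6 : b⁻¹ * c ∈ C e := QuotientGroup.leftRel_apply.1 hbc
          calc b * e * b⁻¹ = b * (e * (b⁻¹ * c)) * (b⁻¹ * c)⁻¹ * b⁻¹ := by group
            _ = c * e * c⁻¹ := by rw [← mem_C.1 h6]; group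
        · rintro ⟨f', hf'⟩
          obtain ⟨u, hu⟩ := isConj_iff.1 hf'
          exact ⟨QuotientGroup.mk u, Subtype.ext hu⟩
      have hdom : p ≤ Nat.card (zpowers a ⧸ (C f).subgroupOf (zpowers a)) := by
        have h7 : Nat.card (zpowers a ⧸ (C f).subgroupOf (zpowers a)) ∣ p ^ k := by
          rw [← hk, ← Nat.card_zpowers]
          exact card_quotient_dvd_card _
        obtain ⟨i, -, hi⟩ := (Nat.dvd_prime_pow hp.out).1 h7
        rcases Nat.eq_zero_or_pos i with rfl | hi0
        · rw [pow_zero, ← index_eq_card, index_eq_one, subgroupOf_eq_top] at hi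
          exact absurd (hi (mem_zpowers a)) haf
        · rw [hi]
          exact Nat.le_self_pow hi0.ne' p
      have hsurj : Function.Surjective φ :=
        (hφ.bijective_of_nat_card_le (hΩ.trans hdom)).2
      have hav : Commute a v := mem_C.1 (hV haV)
      have hz' : ∀ b : zpowers a, Commute (b : G) v := fun b => by
        obtain ⟨i, hi⟩ := b.2
        rw [← hi]
        exact hav.zpow_left i
      obtain ⟨q₀, hq₀⟩ := hsurj ⟨v * f * v⁻¹, (show IsConj e f from hf).trans (isConj_iff.2 ⟨v, rfl⟩)⟩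
      induction q₀ using Quotient.inductionOn with | _ b => ?_
      have hb : (b : G) * f * (b : G)⁻¹ = v * f * v⁻¹ := congrArg Subtype.val hq₀
      have hc : (b : G)⁻¹ * v ∈ L := mem_centralizer_iff.2 fun f' hf' => by
        obtain ⟨q₁, hq₁⟩ := hsurj ⟨f', hf'⟩
        induction q₁ using Quotient.inductionOn with | _ c => ?_
        have hc' : (c : G) * f * (c : G)⁻¹ = f' := congrArg Subtype.val hq₁
        have hbc : Commute (b : G) c := by
          obtain ⟨i, hi⟩ := b.2
          obtain ⟨j, hj⟩ := c.2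
          rw [← hi, ← hj]
          exact Commute.zpow_zpow_self a i j
        have h8 : Commute ((b : G)⁻¹ * v) c := (hbc.inv_left).mul_left (hz' c).symm
        have h9 : (b : G)⁻¹ * v * f * ((b : G)⁻¹ * v)⁻¹ = f := by
          calc (b : G)⁻¹ * v * f * ((b : G)⁻¹ * v)⁻¹ = (b : G)⁻¹ * (v * f * v⁻¹) * b := by group
            _ = f := by rw [← hb]; group
        set d := (b : G)⁻¹ * v
        rw [← hc']
        calc (c : G) * f * (c : G)⁻¹ * d = c * f * ((c : G)⁻¹ * d) := by group
          _ = c * f * (d * (c : G)⁻¹) := by rw [(h8.inv_right).eq]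
          _ = c * (d * f) * (c : G)⁻¹ := by rw [mul_inv_eq_iff_eq_mul.1 h9]; group
          _ = d * ((c : G) * f * (c : G)⁻¹) := by rw [← mul_assoc (c : G) d f, ← h8.eq]; group
      have hbord : (b : G) ^ (p ^ k) = 1 := by
        obtain ⟨i, hi⟩ := b.2
        rw [← hi, ← hk, ← zpow_natCast (a ^ i), ← zpow_mul, mul_comm, zpow_mul, zpow_natCast,
          pow_orderOf_eq_one, one_zpow]
      have h10 : v ^ (p ^ k) ∈ L := by
        have h11 := pow_mem hc (p ^ k)
        rwa [((hz' b).inv_left).mul_pow, inv_pow, hbord, inv_one, one_mul] at h11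
      obtain ⟨j, hj⟩ := exists_pow_eq_self_of_coprime (x := v) (n := p ^ k)
        (Nat.Coprime.pow_left k (hp.out.coprime_iff_not_dvd.2 hv))
      rw [← hj]
      exact pow_mem h10 j
  have hLeq : L = A := by
    refine eq_of_fac hLA fun t ht => ?_
    haveI := Fact.mk ht
    rcases eq_or_ne t p with rfl | htp
    · exact hfacpA.le.trans (fac_le_of_le t hBL)
    · exact fac_le_of_pElem fun a _ hat => hpL a (not_dvd_orderOf htp hat)
  have hAn : A.Normal := hLeq ▸ hLn
  have hpA : ∀ v : G, ¬ p ∣ orderOf v → v ∈ A := fun v hv => hLeq ▸ hpL v hv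
  set N := normalizer (C x : Set G)
  have hBN : C x ≤ N := le_normalizer
  have hAN : A ⊓ N ≤ C x := by
    refine hs.le_of_normalised hnp hpn hxe hxc hxp hgp hz hgN hfpf (le_inf hle hBN) inf_le_right ?_ ?_
    · rw [mem_normalizer_iff]
      intro a
      rw [mem_inf, mem_inf]
      exact and_congr (mem_normalizer_iff.1 ((normalizer_eq_top_iff.2 hAn).symm ▸ mem_top g) a)
        (mem_normalizer_iff.1 (le_normalizer hgN) a)
    · refine (hp.out.coprime_iff_not_dvd.2 fun hd => ?_).symm
      have h2 := relIndex_mul_relIndex ⊥ (C x) (A ⊓ N) bot_le (le_inf hle hBN)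
      rw [relIndex_bot_left, relIndex_bot_left] at h2
      have h3 := fac_le_of_le p (inf_le_left : A ⊓ N ≤ A)
      have h0 : (C x).relIndex (A ⊓ N) ≠ 0 := fun e => Nat.card_pos.ne' (by rw [← h2, e, mul_zero])
      rw [hfacpA, fac, fac, ← h2, Nat.factorization_mul Nat.card_pos.ne' h0, Finsupp.add_apply] at h3
      have := hp.out.factorization_pos_of_dvd h0 hd
      omega
  obtain ⟨K, hKA, hAK, hKcop, hKmem⟩ := exists_complement (q := p) hle hab hfacpA
    (fun k hk hkp hkc => (hs.part_C_eq hnp hpn hxe hxc hp.out hpn hk hkp hkc).symm)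
    ⟨x, self_mem_C x, hxe, hxc⟩ hAN
  have hK' : ∀ k ∈ K, ¬ p ∣ orderOf k := fun k hk hd =>
    hp.out.coprime_iff_not_dvd.1 hKcop.symm (hd.trans (orderOf_dvd_natCard K hk))
  have hKn : K.Normal := ⟨fun k hk u => hKmem _ (hAn.conj_mem k (hKA hk) u) (by
    rw [show orderOf (u * k * u⁻¹) = orderOf k from
      orderOf_injective (MulAut.conj u).toMonoidHom (MulAut.conj u).injective k]
    exact hK' k hk)⟩
  haveI := hKn
  -- central elements of `K`
  have hUP : U ≤ (P : Subgroup G) := by
    have hsup : IsPGroup p (U ⊔ (P : Subgroup G) : Subgroup G) :=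
      hUp.to_sup_of_normal_left' P.2 (hPN.trans (part_normalized hab hUB hUc))
    rw [← P.3 hsup le_sup_right]
    exact le_sup_left
  have heK : e ∈ K := hKmem e (self_mem_C e) (not_dvd_orderOf hrp her)
  have hKp : fac p K = 0 := Nat.factorization_eq_zero_of_not_dvd
    (hp.out.coprime_iff_not_dvd.1 hKcop.symm)
  have hcenK : ∀ u ∈ K, K ≤ C u → u ∈ C x := by
    intro u huK hu
    set U' := K ⊓ centralizer (K : Set G)
    have hU'ab : ∀ a ∈ U', ∀ b ∈ U', a * b = b * a := fun a ha b hb =>
      mem_centralizer_iff.1 hb.2 a ha.1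
    have heU' : e ∈ U' := ⟨heK, mem_centralizer_iff.2 fun k hk => mem_C.1 (hKA hk)⟩
    have huU' : u ∈ U' := ⟨huK, mem_centralizer_iff.2 fun k hk => mem_C.1 (hu hk)⟩
    have hnU' : ∀ s : G, ∀ a ∈ U', s * a * s⁻¹ ∈ U' := fun s a ha =>
      ⟨hKn.conj_mem a ha.1 s, mem_centralizer_iff.2 fun k hk => by
        have h1 := mem_centralizer_iff.1 ha.2 (s⁻¹ * k * s⁻¹⁻¹) (hKn.conj_mem k hk s⁻¹)
        rw [inv_inv] at h1
        calc k * (s * a * s⁻¹) = s * (s⁻¹ * k * s * a) * s⁻¹ := by group
          _ = s * a * s⁻¹ * k := by rw [h1]; group⟩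
    let δ : G → G := fun w => x * w * x⁻¹ * w⁻¹
    have hδU : ∀ w ∈ U', δ w ∈ U' := fun w hw => mul_mem (hnU' x w hw) (inv_mem hw)
    -- a displacement fixed by `x` is trivial
    have htriv : ∀ w ∈ U', x * δ w = δ w * x → δ w = 1 := by
      intro w hw hfix
      have e1 : ∀ i : ℕ, x ^ i * w * (x ^ i)⁻¹ = δ w ^ i * w := by
        intro i
        induction i with
        | zero => simp
        | succ i ih =>
          calc x ^ (i + 1) * w * (x ^ (i + 1))⁻¹ = x * (x ^ i * w * (x ^ i)⁻¹) * x⁻¹ := by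
                rw [pow_succ']; group
            _ = x * δ w ^ i * w * x⁻¹ := by rw [ih]; group
            _ = δ w ^ i * (x * w * x⁻¹) := by rw [((show Commute x (δ w) from hfix).pow_right i).eq]; group
            _ = δ w ^ (i + 1) * w := by rw [pow_succ]; simp only [δ]; group
      have h1 := e1 p
      rw [← mem_center_iff.1 hxp w, mul_inv_cancel_right] at h1
      have h2 : δ w ^ p = 1 := mul_eq_right.1 h1.symm
      refine orderOf_eq_one_iff.1 (Nat.eq_one_of_dvd_coprimes hKcop
        (orderOf_dvd_natCard K (hδU w hw).1) (orderOf_dvd_of_pow_eq_one h2))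
    set d := δ u with hd
    have hd1 : x * d = d * x := by
      have hd' : d ∈ U' := hδU u huU'
      set w := e * d
      have hxe' : x * e = e * x := (mem_C.1 heB).symm
      by_cases hwc : w ∈ center G
      · have h1 := mem_center_iff.1 hwc x
        simp only [w] at h1
        rw [← mul_assoc, hxe', mul_assoc, mul_assoc] at h1
        exact mul_left_cancel h1
      -- `P ⊓ C w` fixes `e` and `d`
      have hle2 : (P : Subgroup G) ⊓ C w ≤ (P : Subgroup G) ⊓ A := by
        refine le_inf inf_le_left fun s hs' => mem_C.2 ?_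
        obtain ⟨hsP, hsw⟩ := hs'
        set z := s * x * s⁻¹ * x⁻¹ with hz'
        have hzc : z ∈ center G := hxz s hsP
        set u₂ := s * u * s⁻¹
        have hu₂ : u₂ ∈ U' := hnU' s u huU'
        have h1 : s * d * s⁻¹ = δ u₂ := by
          calc s * d * s⁻¹ = (z * x) * u₂ * (z * x)⁻¹ * u₂⁻¹ := by simp only [d, δ, z, u₂]; group
            _ = z * (x * u₂ * x⁻¹) * z⁻¹ * u₂⁻¹ := by group
            _ = δ u₂ := by rw [← mem_center_iff.1 hzc (x * u₂ * x⁻¹), mul_inv_cancel_right]
        have h2 : s * e * s⁻¹ * (s * d * s⁻¹) = e * d := by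
          have h := mem_C.1 hsw
          calc s * e * s⁻¹ * (s * d * s⁻¹) = s * (e * d) * s⁻¹ := by group
            _ = e * d := by rw [h, mul_inv_cancel_right]
        have h3 : e⁻¹ * (s * e * s⁻¹) = δ (u * u₂⁻¹) := by
          have h4 : e⁻¹ * (s * e * s⁻¹) = d * (δ u₂)⁻¹ := by
            rw [← h1]
            calc e⁻¹ * (s * e * s⁻¹) = e⁻¹ * (s * e * s⁻¹ * (s * d * s⁻¹)) * (s * d * s⁻¹)⁻¹ := by group
              _ = d * (s * d * s⁻¹)⁻¹ := by rw [h2]; group
          rw [h4]
          set a := x * u * x⁻¹ with ha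
          set b := x * u₂ * x⁻¹ with hb
          have haU : a ∈ U' := hnU' x u huU'
          have hbU : b ∈ U' := hnU' x u₂ hu₂
          calc d * (δ u₂)⁻¹ = a * (u⁻¹ * u₂ * b⁻¹) := by simp only [d, δ, a, b]; group
            _ = a * (b⁻¹ * (u⁻¹ * u₂)) := by
                rw [hU'ab _ (mul_mem (inv_mem huU') hu₂) _ (inv_mem hbU)]
            _ = a * (b⁻¹ * (u₂ * u⁻¹)) := by rw [hU'ab _ (inv_mem huU') _ hu₂]
            _ = δ (u * u₂⁻¹) := by simp only [δ, a, b]; group
        have h5 : e⁻¹ * (s * e * s⁻¹) ∈ C x :=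
          mul_mem (inv_mem heB) ((mem_normalizer_iff.1 (hPN hsP) e).1 heB)
        have h6 : δ (u * u₂⁻¹) = 1 :=
          htriv _ (mul_mem huU' (inv_mem hu₂)) (by rw [← h3]; exact (mem_C.1 h5).symm)
        rw [h6, inv_mul_eq_one] at h3
        exact (mul_inv_eq_iff_eq_mul.1 h3.symm)
      have hKP : K ⊔ (P : Subgroup G) = ⊤ := by
        refine eq_of_fac le_top fun t ht => ?_
        haveI := Fact.mk ht
        rcases eq_or_ne t p with rfl | htp
        · refine le_trans ?_ (fac_le_of_le t le_sup_right)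
          rw [fac_eq_of_pPow P.card_eq_multiplicity, fac, Subgroup.card_top]
        · exact fac_le_of_pElem fun a _ hat => mem_sup_left
            (hKmem a (hpA a (not_dvd_orderOf htp hat)) (not_dvd_orderOf htp hat))
      have hwK : K ≤ C w := fun k hk => mem_C.2
        ((mem_centralizer_iff.1 (mul_mem heU' hd').2 k hk))
      have hCw : C w ≤ K ⊔ ((P : Subgroup G) ⊓ C w) := by
        intro a ha
        obtain ⟨k, hk, s, hs', rfl⟩ := mem_sup_of_normal_left.1 (hKP ▸ mem_top a)
        refine mul_mem (mem_sup_left hk) (mem_sup_right ⟨hs', ?_⟩)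
        have := mul_mem (inv_mem (hwK hk)) ha
        rwa [inv_mul_cancel_left] at this
      have h7 : fac p (C x) ≤ fac p ((P : Subgroup G) ⊓ C w : Subgroup G) := by
        rw [← hs.fac_C_eq hpn hwc hxc]
        refine (fac_le_of_le p hCw).trans ?_
        have h8 := (Nat.factorization_le_iff_dvd Nat.card_pos.ne' (Nat.mul_pos Nat.card_pos Nat.card_pos).ne').2
          (CfsgLib.Cores.card_sup_dvd_mul K ((P : Subgroup G) ⊓ C w)) p
        rw [Nat.factorization_mul Nat.card_pos.ne' Nat.card_pos.ne', Finsupp.add_apply] at h8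
        simp only [fac] at hKp ⊢
        omega
      have hPA : (P : Subgroup G) ⊓ A = U := (Subgroup.eq_of_le_of_card_ge
        (le_inf hUP (hUB.trans hle)) (by
          rw [hUc, ← hfacpA]
          exact card_le_of_pSubgroup inf_le_right (P.2.to_le inf_le_left))).symm
      have h9 : (P : Subgroup G) ⊓ C w = U := by
        refine Subgroup.eq_of_le_of_card_ge (hle2.trans hPA.le) ?_
        obtain ⟨i, hi⟩ := IsPGroup.iff_card.1 (P.2.to_le (inf_le_left : (P : Subgroup G) ⊓ C w ≤ P))
        rw [fac_eq_of_pPow hi] at h7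
        rw [hUc, hi]
        exact Nat.pow_le_pow_right hp.out.pos h7
      have h10 := mem_C.1 (h9.ge hxU).2
      simp only [w] at h10
      rw [← mul_assoc, hxe', mul_assoc, mul_assoc] at h10
      exact mul_left_cancel h10
    have hd2 := htriv u huU' hd1
    refine mem_C.2 ?_
    simp only [d, δ] at hd2
    exact (mul_inv_eq_iff_eq_mul.1 (mul_inv_eq_one.1 hd2)).symm
  -- an invariant Sylow subgroup of `K`
  obtain ⟨U₀, hU₀B, hU₀p, hU₀c⟩ := exists_pSubgroup r (C x)
  have hU₀K : U₀ ≤ K := fun a ha =>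
    hKmem a (hle (hU₀B ha)) (not_dvd_orderOf hrp (isPElem_of_mem hU₀p ha))
  have hxU₀ : zpowers x ≤ normalizer (U₀ : Set G) := zpowers_le.2 (centralizer_le_normalizer _
    (mem_centralizer_iff.2 fun a ha => mem_C.1 (hU₀B ha)))
  obtain ⟨S, hUS, hSx⟩ := CfsgLib.Solvable.exists_invariant_sylow_ge (A := zpowers x) (K := K)
    (zpowers_le.2 (by rw [normalizer_eq_top_iff.2 hKn]; exact mem_top x))
    (by
      obtain ⟨i, hi⟩ := hxe
      rw [Nat.card_zpowers, hi]
      exact (Nat.Coprime.pow_right i hKcop).symm)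
    (Or.inl (Group.isSolvable_of_comm fun a b => Subtype.ext (by
      obtain ⟨i, hi⟩ := a.2
      obtain ⟨j, hj⟩ := b.2
      rw [Subgroup.coe_mul, Subgroup.coe_mul, ← hi, ← hj]
      exact (Commute.zpow_zpow_self x i j).eq))) r hU₀K hU₀p hxU₀
  set Sg := (S : Subgroup K).map K.subtype with hSg
  have hSp : IsPGroup r Sg := S.2.map _
  have hfix : ∀ q ∈ Sg, (∀ a ∈ U₀, a * q = q * a) → q ∈ C x := by
    intro q hq hqa
    by_contra hqB
    have hqc : q ∉ center G := fun h => hqB (center_le_C x h)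
    have hle1 : U₀ ⊔ zpowers q ≤ C q := sup_le (fun a ha => mem_C.2 (hqa a ha))
      (zpowers_le.2 (self_mem_C q))
    have hp1 : IsPGroup r (U₀ ⊔ zpowers q : Subgroup G) := hSp.to_le (sup_le hUS (zpowers_le.2 hq))
    have h1 := card_le_of_pSubgroup hle1 hp1
    have h2 : Nat.card U₀ < Nat.card (U₀ ⊔ zpowers q : Subgroup G) := by
      refine lt_of_le_of_ne (card_le_of_le le_sup_left) fun heq => hqB ?_
      exact hU₀B ((Subgroup.eq_of_le_of_card_ge (le_sup_left : U₀ ≤ U₀ ⊔ zpowers q) heq.ge).symm ▸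
        mem_sup_right (mem_zpowers q))
    rcases hs.m_or_mn hqc with hqm | hqmn
    · refine hqB (hcenK q (map_subtype_le _ hq) ?_)
      have h3 : K ⊓ C q = K := by
        refine eq_of_fac inf_le_left fun t ht => ?_
        haveI := Fact.mk ht
        rcases eq_or_ne t p with rfl | htp
        · rw [hKp]; exact Nat.zero_le _
        · have htm : ¬ t ∣ m := fun h => htp (hone t ht h)
          obtain ⟨R, hR⟩ := hs.exists_sylow_le_C htm hqm
          have hRK : (R : Subgroup G) ≤ K ⊓ C q := fun a ha => by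
            have hat := not_dvd_orderOf htp (isPElem_of_mem R.2 ha)
            exact ⟨hKmem a (hpA a hat) hat, hR ha⟩
          have h4 := fac_le_of_le t hRK
          rw [fac_eq_of_pPow R.card_eq_multiplicity] at h4
          have := fac_add_index t K
          omega
      exact inf_eq_left.1 h3
    · rw [show fac r (C q) = fac r (C x) from congrArg (fun c : ℕ => c.factorization r)
        (card_C_eq (hqmn.trans (hs.idx_mn hnp hp.out hpn hxe hxc).symm)), ← hU₀c] at h1
      omega
  have hcomm := CfsgLib.Local.commute_of_commutator_fixedPoints (U := U₀) (x := x) hU₀p (p := r)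
    (by
      obtain ⟨i, hi⟩ := hxe
      rw [hi]
      exact Nat.Coprime.pow_left i ((Nat.coprime_primes hp.out hr).2 hrp.symm))
    Sg hSp (hUS.trans le_normalizer) (hSx (mem_zpowers x))
    (fun a ha q _ => by
      have h : x * a * x⁻¹ * a⁻¹ = 1 := by
        rw [← mem_C.1 (hU₀B ha), mul_inv_cancel_right, mul_inv_cancel]
      rw [h, one_mul, mul_one])
    (fun q hq hqa => (mem_C.1 (hfix q hq hqa)).symm)
  have h1 : fac r A ≤ fac r (C x) := by
    have hSB : Sg ≤ C x := fun q hq => mem_C.2 (hcomm q hq).symm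
    refine le_trans ?_ (fac_le_of_le r hSB)
    refine le_trans (fac_le_of_pElem (U := K) fun a ha har => hKmem a ha (not_dvd_orderOf hrp har)) ?_
    rw [hSg, fac, fac, card_map_of_injective K.subtype_injective, S.card_eq_multiplicity,
      Nat.factorization_pow, Finsupp.smul_apply, hr.factorization_self, smul_eq_mul, mul_one]
  have h2 : fac r A + m.factorization r = (Nat.card G).factorization r := hs.fac_C_m hem r
  have h3 := hs.fac_C_mn (hs.idx_mn hnp hp.out hpn hxe hxc) r
  have h4 := hr.factorization_pos_of_dvd (by have := hs.one_lt_n; omega) hrn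
  omega

/-- Some size `m` element has an abelian centraliser. -/
theorem exists_abelian : ∃ z : G, idx z = m ∧ ∀ a ∈ C z, ∀ b ∈ C z, a * b = b * a := by
  by_cases hnp : OnlyN G m n
  · exfalso
    obtain ⟨p, hp, hpm⟩ := Nat.exists_prime_and_dvd hs.m_ne_one
    haveI := Fact.mk hp
    by_cases hone : ∀ t : ℕ, t.Prime → t ∣ m → t = p
    · exact hs.false_of_single hnp hpm hone
    push Not at hone
    obtain ⟨q, hq, hqm, hqp⟩ := hone
    haveI := Fact.mk hq
    have h1 := Nat.le_of_dvd (by have := hq.two_le; omega) (hs.dvd_sub_one hnp hqp.symm hpm hqm)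
    have h2 := Nat.le_of_dvd (by have := hp.two_le; omega) (hs.dvd_sub_one hnp hqp hqm hpm)
    omega
  · simp only [OnlyN, not_forall] at hnp
    obtain ⟨q, x, hq, hxq, hx, hqn⟩ := hnp
    haveI := Fact.mk hq
    exact hs.abelian_of_primary hqn hxq hx

end Sizes

end CfsgLib.FGS.CoprimeMultiple
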