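import Mathlib
import Cfsg.Agent.Lib.FGS.CoprimeMultiple.SinglePrime
import Cfsg.Agent.Lib.PGroupExtra.AbelianPrimeIndex
import Cfsg.Agent.Lib.PGroup.PrimeIndex

/-!
# Structure of groups with class sizes `1, m, m * n`, `m` and `n` coprime
-/

set_option autoImplicit false
set_option linter.unusedSectionVars false

namespace CfsgLib.FGS.CoprimeMultiple

open Subgroup

variable {G : Type*} [Group G] [Finite G] {m n : ℕ}

/-- A `p`-subgroup moving `x` by central elements normalises `C x`. -/
theorem le_normalizer_C_of_central {P : Subgroup G} {x : G}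
    (hxz : ∀ g ∈ P, g * x * g⁻¹ * x⁻¹ ∈ center G) : P ≤ normalizer (C x : Set G) := by
  intro g hg
  refine C_eq_normalize rfl ?_
  have hz := hxz g hg
  ext a
  rw [mem_C, mem_C, show g * x * g⁻¹ = (g * x * g⁻¹ * x⁻¹) * x by group]
  constructor
  · intro h
    refine mul_left_cancel (a := g * x * g⁻¹ * x⁻¹) ?_
    rw [← mul_assoc, ← (mem_center_iff.1 hz a), mul_assoc, h]
    group
  · intro h
    rw [← mul_assoc, mem_center_iff.1 hz a, mul_assoc, h, ← mul_assoc]

theorem pow_mem_C_of_central {p : ℕ} {x g : G} (hxp : x ^ p ∈ center G)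
    (hzc : g * x * g⁻¹ * x⁻¹ ∈ center G) : g ^ p ∈ C x := by
  set z := g * x * g⁻¹ * x⁻¹ with hz
  have e1 : ∀ i : ℕ, g ^ i * x * (g ^ i)⁻¹ = z ^ i * x := by
    intro i
    induction i with
    | zero => simp
    | succ i ih =>
      calc g ^ (i + 1) * x * (g ^ (i + 1))⁻¹ = g * (g ^ i * x * (g ^ i)⁻¹) * g⁻¹ := by
            rw [pow_succ']; group
        _ = g * z ^ i * x * g⁻¹ := by rw [ih]; group
        _ = z ^ (i + 1) * x := by
            rw [mem_center_iff.1 (pow_mem hzc i) g, pow_succ, hz]; group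
  have e2 : z ^ p = 1 := by
    have h1 : (z * x) ^ p = g * x ^ p * g⁻¹ := by
      have := e1 1
      simp only [pow_one] at this
      rw [← this, conj_pow]
    rw [(show Commute z x from (mem_center_iff.1 hzc x).symm).mul_pow, mem_center_iff.1 hxp g,
      mul_inv_cancel_right] at h1
    exact mul_eq_right.1 h1
  have h3 := e1 p
  rw [e2, one_mul] at h3
  exact mem_C.2 (mul_inv_eq_iff_eq_mul.1 h3)

theorem commutator_mem_C_of_central {x a b : G} (hza : a * x * a⁻¹ * x⁻¹ ∈ center G)
    (hzb : b * x * b⁻¹ * x⁻¹ ∈ center G) : a * b * a⁻¹ * b⁻¹ ∈ C x := by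
  set za := a * x * a⁻¹ * x⁻¹
  set zb := b * x * b⁻¹ * x⁻¹
  have ea : ∀ y ∈ center G, a * (y * x) * a⁻¹ = y * za * x := fun y hy => by
    rw [← mul_assoc, mem_center_iff.1 hy a]; simp only [za]; group
  have eb : ∀ y ∈ center G, b * (y * x) * b⁻¹ = y * zb * x := fun y hy => by
    rw [← mul_assoc, mem_center_iff.1 hy b]; simp only [zb]; group
  have h3 : a * b * x * (a * b)⁻¹ = za * zb * x := by
    calc a * b * x * (a * b)⁻¹ = a * (zb * x) * a⁻¹ := by simp only [zb]; group
      _ = za * zb * x := by rw [ea zb hzb, mem_center_iff.1 hza zb]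
  have h1 : a * b * x * (a * b)⁻¹ = b * a * x * (b * a)⁻¹ := by
    calc a * b * x * (a * b)⁻¹ = za * zb * x := h3
      _ = b * (za * x) * b⁻¹ := by rw [eb za hza]
      _ = b * a * x * (b * a)⁻¹ := by simp only [za]; group
  have h2 : a * b * a⁻¹ * b⁻¹ * (b * a * x * (b * a)⁻¹) * (a * b * a⁻¹ * b⁻¹)⁻¹
      = a * b * x * (a * b)⁻¹ := by group
  rw [← h1, h3] at h2
  set c := a * b * a⁻¹ * b⁻¹
  have hz2 : za * zb ∈ center G := mul_mem hza hzb
  have h4 : c * (za * zb * x) = za * zb * x * c := mul_inv_eq_iff_eq_mul.1 h2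
  rw [← mul_assoc, mem_center_iff.1 hz2 c, mul_assoc (za * zb) c x, mul_assoc (za * zb) x c] at h4
  exact mem_C.2 (mul_left_cancel h4)

namespace Sizes

variable (hs : Sizes G m n)
include hs

/-- The multiplicity of `p` in `m` is at most one. -/
theorem factorization_le_one {p t : ℕ} [hp : Fact p.Prime] [ht : Fact t.Prime] (htp : p ≠ t)
    (hpn : ¬ p ∣ n) {P X : Subgroup G} (hPc : Nat.card P = p ^ (Nat.card G).factorization p) {x : G}
    (hX : X = C x) (hxc : x ∉ center G) (hxz : ∀ g ∈ P, g * x * g⁻¹ * x⁻¹ ∈ center G)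
    (hxp : x ^ p ∈ center G) (hab : ∀ a ∈ X, ∀ b ∈ X, a * b = b * a)
    (hCk : ∀ k ∈ X, k ∉ center G → C k = X) (hk : ∃ k ∈ X, IsPElem t k ∧ k ∉ center G) :
    m.factorization p ≤ 1 := by
  subst hX
  have hPN := le_normalizer_C_of_central hxz
  obtain ⟨U, hUB, hUp, hUc⟩ := exists_pSubgroup p (C x)
  obtain ⟨Y, hYB, hYp, hYc⟩ := exists_pSubgroup t (C x)
  have hUN := part_normalized hab hUB hUc
  have hPp : IsPGroup p P := IsPGroup.of_card hPc
  have hUP : U ≤ P := by
    have hsup : IsPGroup p (U ⊔ P : Subgroup G) := hUp.to_sup_of_normal_left' hPp (hPN.trans hUN)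
    let P' : Sylow p G := Sylow.ofCard P hPc
    exact le_trans le_sup_left (le_of_eq (P'.3 hsup le_sup_right))
  have hPB : P ⊓ C x = U := le_antisymm
    (fun a ha => mem_part hab hUB hUc ha.2 (isPElem_of_mem hPp ha.1)) (le_inf hUP hUB)
  obtain ⟨k, hkX, hkt, hkc⟩ := hk
  have hd := relIndex_dvd_prime (H := U) (N := P) (X := Y) hUP (hPN.trans hUN)
    (hPN.trans (part_normalized hab hYB hYc))
    (fun a ha => mem_centralizer_iff.2 fun b hb => hab b (hYB hb) a (hUB ha))
    (fun a ha b hb => hab a (hYB ha) b (hYB hb))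
    (fun g hg hgU v hv hgv => by
      by_contra hvc
      exact hgU (hPB ▸ ⟨hg, hCk v (hYB hv) hvc ▸ mem_C.2 hgv⟩))
    (part_coprime htp hYc) (fun h => hkc (h (mem_part hab hYB hYc hkX hkt)))
    (fun g hg => hPB ▸ ⟨pow_mem hg p, pow_mem_C_of_central hxp (hxz g hg)⟩)
    (fun a ha b hb => hPB ▸ mem_inf.2 ⟨mul_mem (mul_mem (mul_mem ha hb) (inv_mem ha)) (inv_mem hb),
      commutator_mem_C_of_central (hxz a ha) (hxz b hb)⟩)
  have h1 := relIndex_mul_relIndex ⊥ U P bot_le hUP
  rw [relIndex_bot_left, relIndex_bot_left, hUc, hPc] at h1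
  have hfac : fac p (C x) + m.factorization p = (Nat.card G).factorization p := by
    rcases hs.m_or_mn hxc with h | h
    · exact hs.fac_C_m h p
    · have := hs.fac_C_mn h p
      rwa [Nat.factorization_eq_zero_of_not_dvd hpn, add_zero] at this
  rw [← hfac, pow_add] at h1
  rw [Nat.eq_of_mul_eq_mul_left (pow_pos hp.out.pos _) h1] at hd
  exact (Nat.pow_dvd_pow_iff_le_right hp.out.one_lt).1 (by rwa [pow_one])

variable {z : G} (hz : idx z = m) (hA : ∀ a ∈ C z, ∀ b ∈ C z, a * b = b * a)
include hz hA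

omit hs hz in
theorem comm_conj (h : G) : ∀ a ∈ C (h * z * h⁻¹), ∀ b ∈ C (h * z * h⁻¹), a * b = b * a := by
  intro a ha b hb
  rw [C_conj, mem_map_equiv, MulAut.conj_symm_apply] at ha hb
  have := hA _ ha _ hb
  calc a * b = h * (h⁻¹ * a * h * (h⁻¹ * b * h)) * h⁻¹ := by group
    _ = b * a := by rw [this]; group

/-- Noncentral elements of a conjugate of `C z` share it. -/
theorem C_eq_of_mem {h k : G} (hk : k ∈ C (h * z * h⁻¹)) (hkc : k ∉ center G) :
    C k = C (h * z * h⁻¹) :=
  (hs.eq_of_le_m ((idx_conj h z).trans hz) hkc fun a ha =>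
    mem_C.2 (comm_conj hA h a ha k hk)).symm

theorem exists_conj_of_m {y : G} (hy : idx y = m) : ∃ h : G, C y = C (h * z * h⁻¹) := by
  obtain ⟨r, hr, hrn⟩ := Nat.exists_prime_and_dvd hs.one_lt_n.ne'
  haveI := Fact.mk hr
  have hrm := hs.not_dvd_of_dvd_n hr hrn
  obtain ⟨R₀, hR₀⟩ := hs.exists_sylow_le_C hrm hz
  obtain ⟨R, hR⟩ := hs.exists_sylow_le_C hrm hy
  obtain ⟨h, hh⟩ := MulAction.exists_smul_eq G R₀ R
  obtain ⟨v, hv, hvc⟩ := hs.exists_noncentral_pElem (hrn.trans (dvd_mul_left n m)) R
  refine ⟨h, ?_⟩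
  have hvA : v ∈ C (h * z * h⁻¹) := by
    rw [C_conj, mem_map_equiv, MulAut.conj_symm_apply]
    apply hR₀
    rwa [← hh, Sylow.coe_subgroup_smul, CfsgLib.FGS.mem_conj_smul] at hv
  have hy' : y ∈ C (h * z * h⁻¹) := by
    rw [← hs.C_eq_of_mem hz hA hvA hvc]
    exact mem_C_comm (hR hv)
  exact hs.C_eq_of_mem hz hA hy' (hs.not_center_m hy)

/-- Size `m` and size `m * n` elements do not commute. -/
theorem not_commute_m_mn {k y : G} (hk : idx k = m) (hy : idx y = m * n) : y ∉ C k := by
  intro hyk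
  obtain ⟨h, hh⟩ := hs.exists_conj_of_m hz hA hk
  have h1 := hs.C_eq_of_mem hz hA (hh ▸ hyk) (hs.not_center_mn hy)
  have h2 : idx y = m := by rw [idx, h1]; exact (idx_conj h z).trans hz
  exact hs.mn_ne_m (hy.symm.trans h2)

/-- `C z` is normal. -/
theorem C_normal : (C z).Normal := by
  set A := C z with hAdef
  have hCz : ∀ k ∈ A, k ∉ center G → C k = A := fun k hk hkc => by
    have := hs.C_eq_of_mem hz hA (h := 1) (k := k) (by simpa using hk) hkc
    simpa using this
  refine normalizer_eq_top_iff.1 (eq_of_fac le_top fun t ht => ?_)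
  haveI := Fact.mk ht
  have htop : fac t (⊤ : Subgroup G) = (Nat.card G).factorization t := by rw [fac, Subgroup.card_top]
  rw [htop]
  by_cases htm : t ∣ m
  · have htn := hs.not_dvd_of_dvd_m ht htm
    obtain ⟨U, hUA, hUp, hUc⟩ := exists_pSubgroup t A
    obtain ⟨P, hUP⟩ := hUp.exists_le_sylow
    obtain ⟨u₀, hu₀, hu₀c⟩ : ∃ u ∈ U, u ∉ center G := by
      obtain ⟨Q⟩ : Nonempty (Sylow t G) := inferInstance
      obtain ⟨y, hy, hyc⟩ := hs.exists_noncentral_pElem (htm.trans (dvd_mul_right m n)) Q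
      obtain ⟨u, hu, hut, huc⟩ :=
        exists_pElem_of_lt (hs.fac_C_gt htn (isPElem_of_mem Q.2 hy) hyc (hs.not_center_m hz))
      exact ⟨u, mem_part hA hUA hUc hu hut, huc⟩
    have hnorm : normalizer (U : Set G) ≤ normalizer (A : Set G) := fun g hg =>
      C_eq_normalize (hCz u₀ (hUA hu₀) hu₀c)
        (hCz _ (hUA ((mem_normalizer_iff.1 hg u₀).1 hu₀)) fun h => hu₀c (conj_mem_center.1 h))
    have hPA : (P : Subgroup G) ⊓ A = U := le_antisymm
      (fun a ha => mem_part hA hUA hUc ha.2 (isPElem_of_mem P.2 ha.1)) (le_inf hUP hUA)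
    suffices hPN : (P : Subgroup G) ≤ normalizer (U : Set G) by
      have := fac_le_of_le t (hPN.trans hnorm)
      rwa [fac_eq_of_pPow P.card_eq_multiplicity] at this
    by_cases hone : ∀ q : ℕ, q.Prime → q ∣ m → q = t
    · -- the normal closure of `U`
      have hprod := CfsgLib.Solvable.mul_of_coprime_index (H := (P : Subgroup G)) (K := A) (by
        refine Nat.coprime_of_dvd fun q hq h1 h2 => P.not_dvd_index ?_
        exact (hone q hq (by rwa [show A.index = m from hz] at h2)) ▸ h1)
      have hOP : normalClosure (U : Set G) ≤ (P : Subgroup G) := by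
        refine closure_le _ |>.2 fun y hy => ?_
        obtain ⟨u, hu, hc⟩ := Group.mem_conjugatesOfSet_iff.1 hy
        obtain ⟨g, hg⟩ := isConj_iff.1 hc
        obtain ⟨s, hs', a, ha, rfl⟩ := hprod g
        rw [← hg, show s * a * u * (s * a)⁻¹ = s * (a * u * a⁻¹) * s⁻¹ by group,
          hA a ha u (hUA hu), mul_inv_cancel_right]
        exact mul_mem (mul_mem hs' (hUP hu)) (inv_mem hs')
      set O := normalClosure (U : Set G)
      haveI hOn : O.Normal := normalClosure_normal
      have hUO : U ≤ O := subset_normalClosure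
      obtain ⟨r, hr, hrn⟩ := Nat.exists_prime_and_dvd hs.one_lt_n.ne'
      haveI := Fact.mk hr
      obtain ⟨R, hR⟩ := hs.exists_sylow_le_C (hs.not_dvd_of_dvd_n hr hrn) hz
      obtain ⟨v, hv, hvc⟩ := hs.exists_noncentral_pElem (hrn.trans (dvd_mul_left n m)) R
      have hvA : v ∈ A := hR hv
      have hco : (orderOf v).Coprime t := by
        obtain ⟨i, hi⟩ := isPElem_of_mem R.2 hv
        rw [hi]
        exact Nat.Coprime.pow_left i ((Nat.coprime_primes hr ht).2 fun e => htn (e ▸ hrn))
      have hcen := CfsgLib.Local.commute_of_commutator_fixedPoints (U := U) (x := v) hUp hco O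
        (P.2.to_le hOP) (by rw [normalizer_eq_top_iff.2 hOn]; exact le_top)
        (by rw [normalizer_eq_top_iff.2 hOn]; exact mem_top v)
        (fun a ha q _ => by
          have h : v * a * v⁻¹ * a⁻¹ = 1 := by
            rw [hA v hvA a (hUA ha), mul_inv_cancel_right, mul_inv_cancel]
          rw [h, one_mul, mul_one])
        (fun q _ hq => hA v hvA q (hCz u₀ (hUA hu₀) hu₀c ▸ mem_C.2 (hq u₀ hu₀).symm))
      have hOA : O ≤ A := fun q hq => hCz v hvA hvc ▸ mem_C.2 (hcen q hq).symm
      have hOU : O = U := le_antisymm ((le_inf hOP hOA).trans hPA.le) hUO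
      rw [normalizer_eq_top_iff.2 (hOU ▸ hOn)]
      exact le_top
    · push Not at hone
      obtain ⟨q, hq, hqm, hqt⟩ := hone
      haveI := Fact.mk hq
      have hqn := hs.not_dvd_of_dvd_m hq hqm
      obtain ⟨x, hxP, hxc, hxp, hxz⟩ := exists_second_centre P.2 le_rfl le_normalizer
        (hs.exists_noncentral_pElem (htm.trans (dvd_mul_right m n)) P)
      have hxt : IsPElem t x := isPElem_of_mem P.2 hxP
      have hν : m.factorization t ≤ 1 := by
        rcases hs.m_or_mn hxc with hxm | hxmn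
        · obtain ⟨h, hh⟩ := hs.exists_conj_of_m hz hA hxm
          obtain ⟨r, hr, hrn⟩ := Nat.exists_prime_and_dvd hs.one_lt_n.ne'
          haveI := Fact.mk hr
          obtain ⟨R, hR⟩ := hs.exists_sylow_le_C (hs.not_dvd_of_dvd_n hr hrn) hxm
          obtain ⟨v, hv, hvc⟩ := hs.exists_noncentral_pElem (hrn.trans (dvd_mul_left n m)) R
          exact hs.factorization_le_one (p := t) (t := r) (fun e => htn (e ▸ hrn)) htn
            P.card_eq_multiplicity rfl hxc hxz hxp (hh ▸ comm_conj hA h)
            (fun k hk hkc => (hs.C_eq_of_mem hz hA (hh ▸ hk) hkc).trans hh.symm)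
            ⟨v, hR hv, isPElem_of_mem R.2 hv, hvc⟩
        · obtain ⟨Q⟩ : Nonempty (Sylow q G) := inferInstance
          obtain ⟨y, hy, hyc⟩ := hs.exists_noncentral_pElem (hqm.trans (dvd_mul_right m n)) Q
          obtain ⟨k, hk, hkq, hkc⟩ :=
            exists_pElem_of_lt (hs.fac_C_gt hqn (isPElem_of_mem Q.2 hy) hyc hxc)
          have hkmn : idx k = m * n := (hs.m_or_mn hkc).resolve_left fun h =>
            hs.not_commute_m_mn hz hA h hxmn (mem_C_comm hk)
          have heq : C x = C k := hs.eq_of_le_mn hkmn (hs.absorb hxmn hk (hxt.coprime hkq hqt.symm))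
          have hab : ∀ a ∈ C x, ∀ b ∈ C x, a * b = b * a := by
            intro a ha b hb
            obtain ⟨i, j, hi, hj, hij⟩ := exists_parts t a
            have h1 : b ∈ C (a ^ i) := hs.absorb hkmn (heq ▸ pow_mem ha i)
              (hkq.coprime hi hqt) (heq ▸ hb)
            have h2 : b ∈ C (a ^ j) := hs.absorb hxmn (pow_mem ha j) (hxt.coprime_of hj) hb
            rw [← hij]
            exact ((show Commute b (a ^ i) from mem_C.1 h1).mul_right (mem_C.1 h2)).symm.eq
          refine hs.factorization_le_one (p := t) (t := q) hqt.symm htn P.card_eq_multiplicity rfl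
            hxc hxz hxp hab (fun l hl hlc => ?_) ⟨k, hk, hkq, hkc⟩
          have hlmn : idx l = m * n := (hs.m_or_mn hlc).resolve_left fun h =>
            hs.not_commute_m_mn hz hA h hxmn (mem_C_comm hl)
          exact (hs.eq_of_le_mn hlmn fun a ha => mem_C.2 (hab a ha l hl)).symm
      have hν1 := ht.factorization_pos_of_dvd hs.ne_zero_m htm
      have hfac := hs.fac_C_m hz t
      have hidx : (U.subgroupOf (P : Subgroup G)).index = t := by
        have h1 := relIndex_mul_relIndex ⊥ U (P : Subgroup G) bot_le hUP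
        rw [relIndex_bot_left, relIndex_bot_left, hUc, P.card_eq_multiplicity, ← hfac,
          show m.factorization t = 1 by omega, pow_succ] at h1
        exact Nat.eq_of_mul_eq_mul_left (pow_pos ht.pos _) h1
      haveI : Group.IsNilpotent (P : Subgroup G) := P.2.isNilpotent
      haveI := CfsgLib.PGroup.normal_of_isCoatom P.2
        (CfsgLib.PGroup.isCoatom_of_index_prime (A := U.subgroupOf (P : Subgroup G)) (hidx.symm ▸ ht))
      exact normal_subgroupOf_iff_le_normalizer hUP |>.1 inferInstance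
  · obtain ⟨R, hR⟩ := hs.exists_sylow_le_C htm hz
    have := fac_le_of_le t (hR.trans le_normalizer)
    rwa [fac_eq_of_pPow R.card_eq_multiplicity] at this

/-- The structure theorem. -/
theorem structure_of_abelian : m.Prime ∧ m ∣ n - 1 ∧ (∃ M : Subgroup G, M.Normal ∧
    (M : Set G) = {x : G | (centralizer ({x} : Set G)).index = 1 ∨ (centralizer ({x} : Set G)).index = m} ∧
      M.index = m ∧ IsMulCommutative M) ∧
    (∃ N : Subgroup G, N.Normal ∧ (Nat.card N).Coprime m ∧ ∃ a : ℕ, N.index = m ^ a) ∧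
    ∀ P : Sylow m G, Nat.card (_root_.commutator (P : Subgroup G)) = m := by
  set A := C z with hAdef
  have hAn : A.Normal := hs.C_normal hz hA
  haveI := hAn
  have hAi : A.index = m := hz
  have hCz : ∀ k ∈ A, k ∉ center G → C k = A := fun k hk hkc => by
    have := hs.C_eq_of_mem hz hA (h := 1) (k := k) (by simpa using hk) hkc
    simpa using this
  have hmA : ∀ y, idx y = m → y ∈ A := fun y hy => by
    obtain ⟨h, hh⟩ := hs.exists_conj_of_m hz hA hy
    have h1 : y ∈ C (h * z * h⁻¹) := hh ▸ self_mem_C y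
    rw [C_conj, mem_map_equiv, MulAut.conj_symm_apply] at h1
    have := hAn.conj_mem _ h1 h
    simpa [mul_assoc] using this
  have houtmn : ∀ y, y ∉ A → idx y = m * n := fun y hy =>
    (hs.m_or_mn fun h => hy (center_le_C z h)).resolve_left fun h => hy (hmA y h)
  have houtfix : ∀ y, y ∉ A → C y ⊓ A = center G := by
    intro y hy
    refine le_antisymm (fun k hk => ?_) (le_inf (center_le_C y) (center_le_C z))
    by_contra hkc
    exact hy (hCz k hk.2 hkc ▸ mem_C_comm hk.1)
  obtain ⟨p, hp, hpm⟩ := Nat.exists_prime_and_dvd hs.m_ne_one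
  haveI := Fact.mk hp
  have hpn := hs.not_dvd_of_dvd_m hp hpm
  obtain ⟨U, hUA, hUp, hUc⟩ := exists_pSubgroup p A
  have hUN : normalizer (U : Set G) = ⊤ := by
    rw [← top_le_iff]
    exact le_trans (normalizer_eq_top_iff.2 hAn).ge (part_normalized hA hUA hUc)
  have hPU : ∀ P : Sylow p G, U ≤ (P : Subgroup G) ∧ (P : Subgroup G) ⊓ A = U := by
    intro P
    have hsup : IsPGroup p (U ⊔ (P : Subgroup G) : Subgroup G) :=
      hUp.to_sup_of_normal_left' P.2 (hUN ▸ le_top)
    have h1 : U ≤ (P : Subgroup G) := le_trans le_sup_left (le_of_eq (P.3 hsup le_sup_right))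
    exact ⟨h1, le_antisymm (fun a ha => mem_part hA hUA hUc ha.2 (isPElem_of_mem P.2 ha.1))
      (le_inf h1 hUA)⟩
  obtain ⟨P₀⟩ : Nonempty (Sylow p G) := inferInstance
  obtain ⟨hUP₀, hPA₀⟩ := hPU P₀
  obtain ⟨x, hxU, hxc, hxp, hxz⟩ := exists_second_centre P₀.2 hUP₀ (hUN ▸ le_top) (by
    obtain ⟨y, hy, hyc⟩ := hs.exists_noncentral_pElem (hpm.trans (dvd_mul_right m n)) P₀
    obtain ⟨u, hu, hup, huc⟩ :=
      exists_pElem_of_lt (hs.fac_C_gt hpn (isPElem_of_mem P₀.2 hy) hyc (hs.not_center_m hz))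
    exact ⟨u, mem_part hA hUA hUc hu hup, huc⟩)
  have hCx : C x = A := hCz x (hUA hxU) hxc
  obtain ⟨r, hr, hrn⟩ := Nat.exists_prime_and_dvd hs.one_lt_n.ne'
  haveI := Fact.mk hr
  obtain ⟨R, hR⟩ := hs.exists_sylow_le_C (hs.not_dvd_of_dvd_n hr hrn) hz
  obtain ⟨v, hv, hvc⟩ := hs.exists_noncentral_pElem (hrn.trans (dvd_mul_left n m)) R
  have hν : m.factorization p = 1 := by
    have h1 := hs.factorization_le_one (p := p) (t := r) (fun e => hpn (e ▸ hrn)) hpn
      P₀.card_eq_multiplicity hCx.symm hxc hxz hxp hA hCz ⟨v, hR hv, isPElem_of_mem R.2 hv, hvc⟩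
    have := hp.factorization_pos_of_dvd hs.ne_zero_m hpm
    omega
  obtain ⟨g, hg, hgA⟩ : ∃ g ∈ (P₀ : Subgroup G), g ∉ A := by
    by_contra hc
    push Not at hc
    have h1 := fac_le_of_le p (fun a ha => hc a ha : (P₀ : Subgroup G) ≤ A)
    rw [fac_eq_of_pPow P₀.card_eq_multiplicity] at h1
    have h2 : fac p A + m.factorization p = (Nat.card G).factorization p := hs.fac_C_m hz p
    omega
  have hgp : IsPElem p g := isPElem_of_mem P₀.2 hg
  have hgc : g ∉ center G := fun h => hgA (center_le_C z h)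
  have hgpA : g ^ p ∈ A := hCx ▸ pow_mem_C_of_central hxp (hxz g hg)
  have hgmn := houtmn g hgA
  -- `m = p`
  have hmp : m = p := by
    refine Nat.eq_of_factorization_eq hs.ne_zero_m hp.ne_zero fun t => ?_
    rw [hp.factorization, Finsupp.single_apply]
    split_ifs with h
    · rw [← h, hν]
    · by_cases ht : t.Prime
      · refine Nat.factorization_eq_zero_of_not_dvd fun hd => ?_
        haveI := Fact.mk ht
        have htn := hs.not_dvd_of_dvd_m ht hd
        obtain ⟨Q⟩ : Nonempty (Sylow t G) := inferInstance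
        obtain ⟨y, hy, hyc⟩ := hs.exists_noncentral_pElem (hd.trans (dvd_mul_right m n)) Q
        obtain ⟨k, hk, hkt, hkc⟩ :=
          exists_pElem_of_lt (hs.fac_C_gt htn (isPElem_of_mem Q.2 hy) hyc hgc)
        have hkA : k ∉ A := fun hkA => hgA (hCz k hkA hkc ▸ mem_C_comm hk)
        refine hkA (hCx ▸ mem_of_commute_mod (g := g) hxp (hCx.symm ▸ hA) (hxz g hg)
          (fun w hw hgw => ?_) (by rw [hCx, normalizer_eq_top_iff.2 hAn]; exact mem_top k)
          (N := orderOf k) (by rw [pow_orderOf_eq_one]; exact one_mem _) ?_ ?_)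
        · exact houtfix g hgA ▸ ⟨mem_C.2 hgw.symm, hCx ▸ hw⟩
        · obtain ⟨i, hi⟩ := hkt
          rw [hi]
          exact Nat.Coprime.pow_left i ((Nat.coprime_primes ht hp).2 (Ne.symm h))
        · rw [mul_assoc g⁻¹ k g, mem_C.1 hk, inv_mul_cancel_left, mul_inv_cancel]
          exact one_mem _
      · exact Nat.factorization_eq_zero_of_not_prime _ ht
  obtain rfl : p = m := hmp.symm
  -- the orders
  have hCg : Nat.card (C g) = Nat.card (center G) * p := by
    have h1 := relIndex_mul_relIndex ⊥ (C g ⊓ A) (C g) bot_le inf_le_left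
    rw [inf_relIndex_left, relIndex_bot_left, relIndex_bot_left, houtfix g hgA] at h1
    rw [← h1]
    congr 1
    have h2 : A.relIndex (C g) ∣ p := hAi ▸ relIndex_dvd_index_of_normal A (C g)
    rcases (Nat.dvd_prime hp).1 h2 with h | h
    · exact absurd (relIndex_eq_one.1 h (self_mem_C g)) hgA
    · exact h
  have hcardA : Nat.card A = Nat.card (center G) * p * n := by
    have h1 := A.card_mul_index
    rw [hAi, ← (C g).card_mul_index, show (C g).index = p * n from hgmn, hCg] at h1
    refine Nat.eq_of_mul_eq_mul_right hp.pos ?_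
    rw [h1]; ring
  have hfacA : ∀ t, fac t A = fac t (center G) + p.factorization t + n.factorization t := fun t => by
    rw [fac, hcardA, Nat.factorization_mul (Nat.mul_pos Nat.card_pos hp.pos).ne'
      (by have := hs.one_lt_n; omega), Nat.factorization_mul Nat.card_pos.ne' hp.ne_zero,
      Finsupp.add_apply, Finsupp.add_apply]
  -- the normal complement
  obtain ⟨K, hKA, hAK, hKcop, hKmem⟩ := exists_complement (q := p) le_rfl hA rfl
    (fun k hk _ hkc => hCz k hk hkc) ⟨x, hUA hxU, isPElem_of_mem hUp hxU, hxc⟩ inf_le_left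
  have hKn : K.Normal := ⟨fun k hk u => hKmem _ (hAn.conj_mem k (hKA hk) u) (by
    rw [show orderOf (u * k * u⁻¹) = orderOf k from
      orderOf_injective (MulAut.conj u).toMonoidHom (MulAut.conj u).injective k]
    exact fun hd => hp.coprime_iff_not_dvd.1 hKcop.symm (hd.trans (orderOf_dvd_natCard K hk)))⟩
  have hKfac : ∀ t : ℕ, t.Prime → t ≠ p → fac t K = (Nat.card G).factorization t := by
    intro t ht htp
    haveI := Fact.mk ht
    have h1 : fac t A ≤ fac t K :=
      fac_le_of_pElem fun a ha hat => hKmem a ha (not_dvd_orderOf htp hat)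
    have h2 : fac t A + p.factorization t = (Nat.card G).factorization t := hs.fac_C_m hz t
    rw [Nat.factorization_eq_zero_of_not_dvd (fun hd => htp ((Nat.prime_dvd_prime_iff_eq ht hp).1 hd))]
      at h2
    have h3 := fac_le_of_le t hKA
    omega
  have hKidx : ∃ a : ℕ, K.index = p ^ a := by
    refine ⟨_, Nat.eq_prime_pow_of_unique_prime_dvd index_ne_zero_of_finite fun {d} hd hdi => ?_⟩
    by_contra hdp
    have h1 := fac_add_index d K
    rw [hKfac d hd hdp] at h1
    exact (hd.factorization_pos_of_dvd index_ne_zero_of_finite hdi).ne' (by omega)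
  -- the congruence
  have hdvd : p ∣ n - 1 := by
    let ρ := QuotientGroup.mk' (center G)
    set Kq := K.map ρ
    have hgq : IsPGroup p (zpowers (ρ g)) := by
      rw [← MonoidHom.map_zpowers]
      exact (isPGroup_of_pElem hgp).map ρ
    have hnorm : zpowers (ρ g) ≤ normalizer (Kq : Set (G ⧸ center G)) := zpowers_le.2
      (le_normalizer_map ρ ⟨g, by rw [SetLike.mem_coe, normalizer_eq_top_iff.2 hKn]; exact mem_top g, rfl⟩)
    letI : MulAction (zpowers (ρ g)) Kq :=
      MulAction.compHom Kq (Kq.normalizerMonoidHom.comp (inclusion hnorm))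
    have hval : ∀ (a : zpowers (ρ g)) (k : Kq),
        ((a • k : Kq) : G ⧸ center G) = a * k * (a : G ⧸ center G)⁻¹ := fun _ _ => rfl
    have hmod := hgq.card_modEq_card_fixedPoints Kq
    have hfix : Nat.card (MulAction.fixedPoints (zpowers (ρ g)) Kq) = 1 := by
      refine Nat.card_eq_one_iff_unique.2 ⟨⟨fun a b => ?_⟩, ⟨⟨1, fun a => Subtype.ext (by
        rw [hval]; simp)⟩⟩⟩
      suffices key : ∀ a : MulAction.fixedPoints (zpowers (ρ g)) Kq, (a.1 : G ⧸ center G) = 1 from
        Subtype.ext (Subtype.ext ((key a).trans (key b).symm))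
      intro a
      obtain ⟨⟨_, k, hk, rfl⟩, ha⟩ := a
      have h1 : ρ g * ρ k * (ρ g)⁻¹ = ρ k := by
        rw [← hval ⟨ρ g, mem_zpowers _⟩ ⟨ρ k, k, hk, rfl⟩]
        exact congrArg Subtype.val (ha ⟨ρ g, mem_zpowers _⟩)
      set w := g * k * g⁻¹ * k⁻¹ with hwdef
      have hwc : w ∈ center G := by
        rw [← QuotientGroup.eq_one_iff (N := center G), ← QuotientGroup.mk'_apply]
        simp only [w, map_mul, map_inv]
        rw [show QuotientGroup.mk' (center G) = ρ from rfl, h1, mul_inv_cancel]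
      have hwK : w ∈ K := mul_mem (hKn.conj_mem k hk g) (inv_mem hk)
      have e1 : ∀ i : ℕ, g ^ i * k * (g ^ i)⁻¹ = w ^ i * k := by
        intro i
        induction i with
        | zero => simp
        | succ i ih =>
          calc g ^ (i + 1) * k * (g ^ (i + 1))⁻¹ = g * (g ^ i * k * (g ^ i)⁻¹) * g⁻¹ := by
                rw [pow_succ']; group
            _ = g * w ^ i * k * g⁻¹ := by rw [ih]; group
            _ = w ^ i * (g * k * g⁻¹) := by rw [mem_center_iff.1 (pow_mem hwc i) g]; group
            _ = w ^ (i + 1) * k := by rw [pow_succ]; simp only [w]; group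
      have hwp : w ^ p = 1 := by
        have h2 := e1 p
        rw [hA _ hgpA k (hKA hk), mul_inv_cancel_right] at h2
        exact mul_eq_right.1 h2.symm
      have hw1 : w = 1 := orderOf_eq_one_iff.1 (Nat.eq_one_of_dvd_coprimes hKcop
        (orderOf_dvd_natCard K hwK) (orderOf_dvd_of_pow_eq_one hwp))
      refine (QuotientGroup.eq_one_iff k).2 (houtfix g hgA ▸ ⟨mem_C_comm (mem_C.2 ?_), hKA hk⟩)
      exact mul_inv_eq_iff_eq_mul.1 (mul_inv_eq_one.1 hw1)
    rw [hfix] at hmod
    have hcard : Nat.card Kq = n := by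
      have h1 : Nat.card Kq = (center G).relIndex K := by
        rw [← relIndex_ker, QuotientGroup.ker_mk']
      have h2 := relIndex_mul_relIndex ⊥ (center G ⊓ K) K bot_le inf_le_right
      rw [inf_relIndex_right, relIndex_bot_left, relIndex_bot_left, ← h1] at h2
      refine Nat.eq_of_factorization_eq Nat.card_pos.ne' (by have := hs.one_lt_n; omega) fun t => ?_
      by_cases ht : t.Prime
      · haveI := Fact.mk ht
        have h3 : fac t K = fac t (center G ⊓ K : Subgroup G) + (Nat.card Kq).factorization t := by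
          rw [fac, ← h2, Nat.factorization_mul Nat.card_pos.ne' Nat.card_pos.ne', Finsupp.add_apply]
        rcases eq_or_ne t p with rfl | htp
        · rw [Nat.factorization_eq_zero_of_not_dvd hpn]
          have : fac t K = 0 := Nat.factorization_eq_zero_of_not_dvd (hp.coprime_iff_not_dvd.1 hKcop.symm)
          omega
        · have h4 : fac t (center G) ≤ fac t (center G ⊓ K : Subgroup G) :=
            fac_le_of_pElem fun a ha hat => ⟨ha, hKmem a (center_le_C z ha) (not_dvd_orderOf htp hat)⟩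
          have h5 := fac_le_of_le t (inf_le_left : center G ⊓ K ≤ center G)
          have h6 : fac t A ≤ fac t K :=
            fac_le_of_pElem fun a ha hat => hKmem a ha (not_dvd_orderOf htp hat)
          have h7 := fac_le_of_le t hKA
          have h8 := hfacA t
          rw [Nat.factorization_eq_zero_of_not_dvd
            (fun hd => htp ((Nat.prime_dvd_prime_iff_eq ht hp).1 hd))] at h8
          omega
      · rw [Nat.factorization_eq_zero_of_not_prime _ ht, Nat.factorization_eq_zero_of_not_prime _ ht]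
    rw [hcard] at hmod
    exact (Nat.modEq_iff_dvd' hs.one_lt_n.le).1 hmod.symm
  refine ⟨hp, hdvd, ⟨A, hAn, ?_, hAi, ⟨⟨fun a b => Subtype.ext (hA a a.2 b b.2)⟩⟩⟩,
    ⟨K, hKn, hKcop, hKidx⟩, fun P => ?_⟩
  · ext y
    refine ⟨fun hy => ?_, ?_⟩
    · by_cases hyc : y ∈ center G
      · exact Or.inl (idx_eq_one.2 hyc)
      · exact Or.inr (by rw [show centralizer ({y} : Set G) = A from hCz y hy hyc]; exact hAi)
    · rintro (h | h)
      · exact center_le_C z (idx_eq_one.1 h)
      · exact hmA y h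
  · obtain ⟨hUP, hPA⟩ := hPU P
    set A' : Subgroup (P : Subgroup G) := A.subgroupOf P with hA'
    haveI : A'.Normal := inferInstance
    have hA'card : Nat.card A' = p ^ fac p A := by
      rw [← card_map_of_injective (P : Subgroup G).subtype_injective, hA', subgroupOf_map_subtype,
        inf_comm, hPA, hUc]
    have hfp := hfacA p
    rw [hp.factorization_self, Nat.factorization_eq_zero_of_not_dvd hpn, add_zero] at hfp
    have hA'i : A'.index = p := by
      have h1 := A'.card_mul_index
      have h2 : fac p A + p.factorization p = (Nat.card G).factorization p := hs.fac_C_m hz p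
      rw [hA'card, P.card_eq_multiplicity, ← h2, hp.factorization_self, pow_succ] at h1
      exact Nat.eq_of_mul_eq_mul_left (pow_pos hp.pos _) h1
    obtain ⟨g', hg'⟩ : ∃ g', g' ∉ A' := by
      by_contra hc
      push Not at hc
      exact hp.one_lt.ne' (hA'i ▸ index_eq_one.2 (eq_top_iff.2 fun a _ => hc a))
    have hg'A : (g' : G) ∉ A := hg'
    have h1 := CfsgLib.PGroupExtra.card_commutator_mul_card_centralizer A'
      (fun a ha b hb => Subtype.ext (hA _ ha _ hb)) (hA'i.symm ▸ hp) g' hg'
    have h2 : Nat.card (A' ⊓ centralizer ({g'} : Set (P : Subgroup G)) : Subgroup _)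
        = p ^ fac p (center G) := by
      obtain ⟨V, hV, hVp, hVc⟩ := exists_pSubgroup p (center G)
      have hVP : V ≤ (P : Subgroup G) := fun a ha =>
        hUP (mem_part hA hUA hUc (center_le_C z (hV ha)) (isPElem_of_mem hVp ha))
      rw [← hVc, ← card_map_of_injective (P : Subgroup G).subtype_injective]
      congr 2
      ext a
      constructor
      · rintro ⟨⟨a, haP⟩, ⟨haA, hag⟩, rfl⟩
        have hac : a ∈ center G := houtfix _ hg'A ▸
          ⟨mem_C.2 (congrArg Subtype.val (mem_centralizer_singleton_iff.1 hag)), haA⟩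
        exact mem_part (B := center G) (fun u hu w _ => (mem_center_iff.1 hu w).symm) hV hVc hac
          (isPElem_of_mem P.2 haP)
      · intro ha
        exact ⟨⟨a, hVP ha⟩, ⟨center_le_C z (hV ha), mem_centralizer_singleton_iff.2
          (Subtype.ext (mem_center_iff.1 (hV ha) g').symm)⟩, rfl⟩
    rw [h2, hA'card, hfp, pow_succ'] at h1
    exact Nat.eq_of_mul_eq_mul_right (pow_pos hp.pos _) h1

end Sizes

end CfsgLib.FGS.CoprimeMultiple
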